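import Cfsg.Agent.Lib.SporRecognition.CosetCert.Upper
import Cfsg.Agent.Lib.FusionExamples.HNSub.HNSxyA.Steps1
import Cfsg.Agent.Lib.FusionExamples.HNSub.HNSxyA.Steps2
import Cfsg.Agent.Lib.FusionExamples.HNSub.HNSxyA.Steps3
import Cfsg.Agent.Lib.FusionExamples.HNSub.HNSxyA.Steps4
import Cfsg.Agent.Lib.FusionExamples.HNSub.HNSxyA.Steps5
import Cfsg.Agent.Lib.FusionExamples.HNSub.HNSxyA.Steps6
import Cfsg.Agent.Lib.FusionExamples.HNSub.HNSxyA.Steps7
import Cfsg.Agent.Lib.FusionExamples.HNSub.HNSxyA.Steps8
import Cfsg.Agent.Lib.FusionExamples.HNSub.HNSxyA.Steps9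
import Cfsg.Agent.Lib.FusionExamples.HNSub.HNSxyA.Steps10
import Cfsg.Agent.Lib.FusionExamples.HNSub.HNSxyA.Steps11
import Cfsg.Agent.Lib.FusionExamples.HNSub.HNSxyA.Steps12
import Cfsg.Agent.Lib.FusionExamples.HNSub.HNSxyA.Steps13
import Cfsg.Agent.Lib.FusionExamples.HNSub.HNSxyA.Steps14
import Cfsg.Agent.Lib.FusionExamples.HNSub.HNSxyA.Steps15
import Cfsg.Agent.Lib.FusionExamples.HNSub.HNSxyA.Steps16
import Cfsg.Agent.Lib.FusionExamples.HNSub.HNSxyA.Steps17
import Cfsg.Agent.Lib.FusionExamples.HNSub.HNSxyA.Steps18
import Cfsg.Agent.Lib.FusionExamples.HNSub.HNSxyA.Steps19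
import Cfsg.Agent.Lib.FusionExamples.HNSub.HNSxyA.Steps20
import Cfsg.Agent.Lib.FusionExamples.HNSub.HNSxyA.Steps21
import Cfsg.Agent.Lib.FusionExamples.HNSub.HNSxyA.Steps22
import Cfsg.Agent.Lib.FusionExamples.HNSub.HNSxyA.Steps23
import Cfsg.Agent.Lib.FusionExamples.HNSub.HNSxyA.Steps24
import Cfsg.Agent.Lib.FusionExamples.HNSub.HNSxyA.Steps25
import Cfsg.Agent.Lib.FusionExamples.HNSub.HNSxyA.Steps26
import Cfsg.Agent.Lib.FusionExamples.HNSub.HNSxyA.Steps27
import Cfsg.Agent.Lib.FusionExamples.HNSub.HNSxyA.Steps28
import Cfsg.Agent.Lib.FusionExamples.HNSub.HNSxyA.Steps29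
import Cfsg.Agent.Lib.FusionExamples.HNSub.HNSxyA.Steps30
import Cfsg.Agent.Lib.FusionExamples.HNSub.HNSxyA.Steps31
import Cfsg.Agent.Lib.FusionExamples.HNSub.HNSxyA.Steps32
import Cfsg.Agent.Lib.FusionExamples.HNSub.HNSxyA.Steps33
import Cfsg.Agent.Lib.FusionExamples.HNSub.HNSxyA.Steps34
import Cfsg.Agent.Lib.FusionExamples.HNSub.HNSxyA.Steps35
import Cfsg.Agent.Lib.FusionExamples.HNSub.HNSxyA.Steps36
import Cfsg.Agent.Lib.FusionExamples.HNSub.HNSxyA.Steps37
import Cfsg.Agent.Lib.FusionExamples.HNSub.HNSxyA.Steps38
import Cfsg.Agent.Lib.FusionExamples.HNSub.HNSxyA.Steps39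
import Cfsg.Agent.Lib.FusionExamples.HNSub.HNSxyA.Steps40
import Cfsg.Agent.Lib.FusionExamples.HNSub.HNSxyA.Steps41
import Cfsg.Agent.Lib.FusionExamples.HNSub.HNSxyA.Steps42
import Cfsg.Agent.Lib.FusionExamples.HNSub.HNSxyA.Steps43
import Cfsg.Agent.Lib.FusionExamples.HNSub.HNSxyA.Steps44
import Cfsg.Agent.Lib.FusionExamples.HNSub.HNSxyA.Steps45
import Cfsg.Agent.Lib.FusionExamples.HNSub.HNSxyA.Steps46
import Cfsg.Agent.Lib.FusionExamples.HNSub.HNSxyA.Steps47
import Cfsg.Agent.Lib.FusionExamples.HNSub.HNSxyA.Steps48
import Cfsg.Agent.Lib.FusionExamples.HNSub.HNSxyA.Steps49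
import Cfsg.Agent.Lib.FusionExamples.HNSub.HNSxyA.Steps50
import Cfsg.Agent.Lib.FusionExamples.HNSub.HNSxyA.Steps51
import Cfsg.Agent.Lib.FusionExamples.HNSub.HNSxyA.Steps52
import Cfsg.Agent.Lib.FusionExamples.HNSub.HNSxyA.Steps53
import Cfsg.Agent.Lib.FusionExamples.HNSub.HNSxyA.Steps54

/-! Generated coset-enumeration certificate: HNS over <x^(-1)*y^2*x, y^3>, 126000 cosets. -/

set_option autoImplicit false
set_option maxRecDepth 20000
set_option linter.all false
set_option Elab.async false

namespace CfsgLib.FusionExamples.HNSub.HNSxyA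

open CfsgLib.SporRecognition.CosetCert

theorem defs_ok_c0 : allPow 331688 (defStep inv fact) 12 0 = true := by decide +kernel
theorem defs_ok_c1 : allPow 331688 (defStep inv fact) 12 4096 = true := by decide +kernel
theorem defs_ok_c2 : allPow 331688 (defStep inv fact) 12 8192 = true := by decide +kernel
theorem defs_ok_c3 : allPow 331688 (defStep inv fact) 12 12288 = true := by decide +kernel
theorem defs_ok_c4 : allPow 331688 (defStep inv fact) 12 16384 = true := by decide +kernel
theorem defs_ok_c5 : allPow 331688 (defStep inv fact) 12 20480 = true := by decide +kernel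
theorem defs_ok_c6 : allPow 331688 (defStep inv fact) 12 24576 = true := by decide +kernel
theorem defs_ok_c7 : allPow 331688 (defStep inv fact) 12 28672 = true := by decide +kernel
theorem defs_ok_c8 : allPow 331688 (defStep inv fact) 12 32768 = true := by decide +kernel
theorem defs_ok_c9 : allPow 331688 (defStep inv fact) 12 36864 = true := by decide +kernel
theorem defs_ok_c10 : allPow 331688 (defStep inv fact) 12 40960 = true := by decide +kernel
theorem defs_ok_c11 : allPow 331688 (defStep inv fact) 12 45056 = true := by decide +kernel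
theorem defs_ok_c12 : allPow 331688 (defStep inv fact) 12 49152 = true := by decide +kernel
theorem defs_ok_c13 : allPow 331688 (defStep inv fact) 12 53248 = true := by decide +kernel
theorem defs_ok_c14 : allPow 331688 (defStep inv fact) 12 57344 = true := by decide +kernel
theorem defs_ok_c15 : allPow 331688 (defStep inv fact) 12 61440 = true := by decide +kernel
theorem defs_ok_c16 : allPow 331688 (defStep inv fact) 12 65536 = true := by decide +kernel
theorem defs_ok_c17 : allPow 331688 (defStep inv fact) 12 69632 = true := by decide +kernel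
theorem defs_ok_c18 : allPow 331688 (defStep inv fact) 12 73728 = true := by decide +kernel
theorem defs_ok_c19 : allPow 331688 (defStep inv fact) 12 77824 = true := by decide +kernel
theorem defs_ok_c20 : allPow 331688 (defStep inv fact) 12 81920 = true := by decide +kernel
theorem defs_ok_c21 : allPow 331688 (defStep inv fact) 12 86016 = true := by decide +kernel
theorem defs_ok_c22 : allPow 331688 (defStep inv fact) 12 90112 = true := by decide +kernel
theorem defs_ok_c23 : allPow 331688 (defStep inv fact) 12 94208 = true := by decide +kernel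
theorem defs_ok_c24 : allPow 331688 (defStep inv fact) 12 98304 = true := by decide +kernel
theorem defs_ok_c25 : allPow 331688 (defStep inv fact) 12 102400 = true := by decide +kernel
theorem defs_ok_c26 : allPow 331688 (defStep inv fact) 12 106496 = true := by decide +kernel
theorem defs_ok_c27 : allPow 331688 (defStep inv fact) 12 110592 = true := by decide +kernel
theorem defs_ok_c28 : allPow 331688 (defStep inv fact) 12 114688 = true := by decide +kernel
theorem defs_ok_c29 : allPow 331688 (defStep inv fact) 12 118784 = true := by decide +kernel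
theorem defs_ok_c30 : allPow 331688 (defStep inv fact) 12 122880 = true := by decide +kernel
theorem defs_ok_c31 : allPow 331688 (defStep inv fact) 12 126976 = true := by decide +kernel
theorem defs_ok_c32 : allPow 331688 (defStep inv fact) 12 131072 = true := by decide +kernel
theorem defs_ok_c33 : allPow 331688 (defStep inv fact) 12 135168 = true := by decide +kernel
theorem defs_ok_c34 : allPow 331688 (defStep inv fact) 12 139264 = true := by decide +kernel
theorem defs_ok_c35 : allPow 331688 (defStep inv fact) 12 143360 = true := by decide +kernel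
theorem defs_ok_c36 : allPow 331688 (defStep inv fact) 12 147456 = true := by decide +kernel
theorem defs_ok_c37 : allPow 331688 (defStep inv fact) 12 151552 = true := by decide +kernel
theorem defs_ok_c38 : allPow 331688 (defStep inv fact) 12 155648 = true := by decide +kernel
theorem defs_ok_c39 : allPow 331688 (defStep inv fact) 12 159744 = true := by decide +kernel
theorem defs_ok_c40 : allPow 331688 (defStep inv fact) 12 163840 = true := by decide +kernel
theorem defs_ok_c41 : allPow 331688 (defStep inv fact) 12 167936 = true := by decide +kernel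
theorem defs_ok_c42 : allPow 331688 (defStep inv fact) 12 172032 = true := by decide +kernel
theorem defs_ok_c43 : allPow 331688 (defStep inv fact) 12 176128 = true := by decide +kernel
theorem defs_ok_c44 : allPow 331688 (defStep inv fact) 12 180224 = true := by decide +kernel
theorem defs_ok_c45 : allPow 331688 (defStep inv fact) 12 184320 = true := by decide +kernel
theorem defs_ok_c46 : allPow 331688 (defStep inv fact) 12 188416 = true := by decide +kernel
theorem defs_ok_c47 : allPow 331688 (defStep inv fact) 12 192512 = true := by decide +kernel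
theorem defs_ok_c48 : allPow 331688 (defStep inv fact) 12 196608 = true := by decide +kernel
theorem defs_ok_c49 : allPow 331688 (defStep inv fact) 12 200704 = true := by decide +kernel
theorem defs_ok_c50 : allPow 331688 (defStep inv fact) 12 204800 = true := by decide +kernel
theorem defs_ok_c51 : allPow 331688 (defStep inv fact) 12 208896 = true := by decide +kernel
theorem defs_ok_c52 : allPow 331688 (defStep inv fact) 12 212992 = true := by decide +kernel
theorem defs_ok_c53 : allPow 331688 (defStep inv fact) 12 217088 = true := by decide +kernel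
theorem defs_ok_c54 : allPow 331688 (defStep inv fact) 12 221184 = true := by decide +kernel
theorem defs_ok_c55 : allPow 331688 (defStep inv fact) 12 225280 = true := by decide +kernel
theorem defs_ok_c56 : allPow 331688 (defStep inv fact) 12 229376 = true := by decide +kernel
theorem defs_ok_c57 : allPow 331688 (defStep inv fact) 12 233472 = true := by decide +kernel
theorem defs_ok_c58 : allPow 331688 (defStep inv fact) 12 237568 = true := by decide +kernel
theorem defs_ok_c59 : allPow 331688 (defStep inv fact) 12 241664 = true := by decide +kernel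
theorem defs_ok_c60 : allPow 331688 (defStep inv fact) 12 245760 = true := by decide +kernel
theorem defs_ok_c61 : allPow 331688 (defStep inv fact) 12 249856 = true := by decide +kernel
theorem defs_ok_c62 : allPow 331688 (defStep inv fact) 12 253952 = true := by decide +kernel
theorem defs_ok_c63 : allPow 331688 (defStep inv fact) 12 258048 = true := by decide +kernel
theorem defs_ok_c64 : allPow 331688 (defStep inv fact) 12 262144 = true := by decide +kernel
theorem defs_ok_c65 : allPow 331688 (defStep inv fact) 12 266240 = true := by decide +kernel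
theorem defs_ok_c66 : allPow 331688 (defStep inv fact) 12 270336 = true := by decide +kernel
theorem defs_ok_c67 : allPow 331688 (defStep inv fact) 12 274432 = true := by decide +kernel
theorem defs_ok_c68 : allPow 331688 (defStep inv fact) 12 278528 = true := by decide +kernel
theorem defs_ok_c69 : allPow 331688 (defStep inv fact) 12 282624 = true := by decide +kernel
theorem defs_ok_c70 : allPow 331688 (defStep inv fact) 12 286720 = true := by decide +kernel
theorem defs_ok_c71 : allPow 331688 (defStep inv fact) 12 290816 = true := by decide +kernel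
theorem defs_ok_c72 : allPow 331688 (defStep inv fact) 12 294912 = true := by decide +kernel
theorem defs_ok_c73 : allPow 331688 (defStep inv fact) 12 299008 = true := by decide +kernel
theorem defs_ok_c74 : allPow 331688 (defStep inv fact) 12 303104 = true := by decide +kernel
theorem defs_ok_c75 : allPow 331688 (defStep inv fact) 12 307200 = true := by decide +kernel
theorem defs_ok_c76 : allPow 331688 (defStep inv fact) 12 311296 = true := by decide +kernel
theorem defs_ok_c77 : allPow 331688 (defStep inv fact) 12 315392 = true := by decide +kernel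
theorem defs_ok_c78 : allPow 331688 (defStep inv fact) 12 319488 = true := by decide +kernel
theorem defs_ok_c79 : allPow 331688 (defStep inv fact) 12 323584 = true := by decide +kernel
theorem defs_ok_c80 : allPow 331688 (defStep inv fact) 12 327680 = true := by decide +kernel
theorem defs_ok : allBelow 19 331688 (defStep inv fact) = true :=
  allBelow_of_upto (hi := 331776)
    (Upto.trans (mid := 163840) (Upto.trans (mid := 81920) (Upto.trans (mid := 40960) (Upto.trans (mid := 20480) (Upto.trans (mid := 8192) (Upto.trans (mid := 4096) ((Upto.of_pow defs_ok_c0 (Nat.le_refl _)) : Upto _ _ 0 (0 + 2 ^ 12))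
    ((Upto.of_pow defs_ok_c1 (Nat.le_refl _)) : Upto _ _ 4096 (4096 + 2 ^ 12)))
    (Upto.trans (mid := 12288) ((Upto.of_pow defs_ok_c2 (Nat.le_refl _)) : Upto _ _ 8192 (8192 + 2 ^ 12))
    (Upto.trans (mid := 16384) ((Upto.of_pow defs_ok_c3 (Nat.le_refl _)) : Upto _ _ 12288 (12288 + 2 ^ 12))
    ((Upto.of_pow defs_ok_c4 (Nat.le_refl _)) : Upto _ _ 16384 (16384 + 2 ^ 12)))))
    (Upto.trans (mid := 28672) (Upto.trans (mid := 24576) ((Upto.of_pow defs_ok_c5 (Nat.le_refl _)) : Upto _ _ 20480 (20480 + 2 ^ 12))
    ((Upto.of_pow defs_ok_c6 (Nat.le_refl _)) : Upto _ _ 24576 (24576 + 2 ^ 12)))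
    (Upto.trans (mid := 32768) ((Upto.of_pow defs_ok_c7 (Nat.le_refl _)) : Upto _ _ 28672 (28672 + 2 ^ 12))
    (Upto.trans (mid := 36864) ((Upto.of_pow defs_ok_c8 (Nat.le_refl _)) : Upto _ _ 32768 (32768 + 2 ^ 12))
    ((Upto.of_pow defs_ok_c9 (Nat.le_refl _)) : Upto _ _ 36864 (36864 + 2 ^ 12))))))
    (Upto.trans (mid := 61440) (Upto.trans (mid := 49152) (Upto.trans (mid := 45056) ((Upto.of_pow defs_ok_c10 (Nat.le_refl _)) : Upto _ _ 40960 (40960 + 2 ^ 12))
    ((Upto.of_pow defs_ok_c11 (Nat.le_refl _)) : Upto _ _ 45056 (45056 + 2 ^ 12)))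
    (Upto.trans (mid := 53248) ((Upto.of_pow defs_ok_c12 (Nat.le_refl _)) : Upto _ _ 49152 (49152 + 2 ^ 12))
    (Upto.trans (mid := 57344) ((Upto.of_pow defs_ok_c13 (Nat.le_refl _)) : Upto _ _ 53248 (53248 + 2 ^ 12))
    ((Upto.of_pow defs_ok_c14 (Nat.le_refl _)) : Upto _ _ 57344 (57344 + 2 ^ 12)))))
    (Upto.trans (mid := 69632) (Upto.trans (mid := 65536) ((Upto.of_pow defs_ok_c15 (Nat.le_refl _)) : Upto _ _ 61440 (61440 + 2 ^ 12))
    ((Upto.of_pow defs_ok_c16 (Nat.le_refl _)) : Upto _ _ 65536 (65536 + 2 ^ 12)))
    (Upto.trans (mid := 73728) ((Upto.of_pow defs_ok_c17 (Nat.le_refl _)) : Upto _ _ 69632 (69632 + 2 ^ 12))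
    (Upto.trans (mid := 77824) ((Upto.of_pow defs_ok_c18 (Nat.le_refl _)) : Upto _ _ 73728 (73728 + 2 ^ 12))
    ((Upto.of_pow defs_ok_c19 (Nat.le_refl _)) : Upto _ _ 77824 (77824 + 2 ^ 12)))))))
    (Upto.trans (mid := 122880) (Upto.trans (mid := 102400) (Upto.trans (mid := 90112) (Upto.trans (mid := 86016) ((Upto.of_pow defs_ok_c20 (Nat.le_refl _)) : Upto _ _ 81920 (81920 + 2 ^ 12))
    ((Upto.of_pow defs_ok_c21 (Nat.le_refl _)) : Upto _ _ 86016 (86016 + 2 ^ 12)))
    (Upto.trans (mid := 94208) ((Upto.of_pow defs_ok_c22 (Nat.le_refl _)) : Upto _ _ 90112 (90112 + 2 ^ 12))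
    (Upto.trans (mid := 98304) ((Upto.of_pow defs_ok_c23 (Nat.le_refl _)) : Upto _ _ 94208 (94208 + 2 ^ 12))
    ((Upto.of_pow defs_ok_c24 (Nat.le_refl _)) : Upto _ _ 98304 (98304 + 2 ^ 12)))))
    (Upto.trans (mid := 110592) (Upto.trans (mid := 106496) ((Upto.of_pow defs_ok_c25 (Nat.le_refl _)) : Upto _ _ 102400 (102400 + 2 ^ 12))
    ((Upto.of_pow defs_ok_c26 (Nat.le_refl _)) : Upto _ _ 106496 (106496 + 2 ^ 12)))
    (Upto.trans (mid := 114688) ((Upto.of_pow defs_ok_c27 (Nat.le_refl _)) : Upto _ _ 110592 (110592 + 2 ^ 12))
    (Upto.trans (mid := 118784) ((Upto.of_pow defs_ok_c28 (Nat.le_refl _)) : Upto _ _ 114688 (114688 + 2 ^ 12))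
    ((Upto.of_pow defs_ok_c29 (Nat.le_refl _)) : Upto _ _ 118784 (118784 + 2 ^ 12))))))
    (Upto.trans (mid := 143360) (Upto.trans (mid := 131072) (Upto.trans (mid := 126976) ((Upto.of_pow defs_ok_c30 (Nat.le_refl _)) : Upto _ _ 122880 (122880 + 2 ^ 12))
    ((Upto.of_pow defs_ok_c31 (Nat.le_refl _)) : Upto _ _ 126976 (126976 + 2 ^ 12)))
    (Upto.trans (mid := 135168) ((Upto.of_pow defs_ok_c32 (Nat.le_refl _)) : Upto _ _ 131072 (131072 + 2 ^ 12))
    (Upto.trans (mid := 139264) ((Upto.of_pow defs_ok_c33 (Nat.le_refl _)) : Upto _ _ 135168 (135168 + 2 ^ 12))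
    ((Upto.of_pow defs_ok_c34 (Nat.le_refl _)) : Upto _ _ 139264 (139264 + 2 ^ 12)))))
    (Upto.trans (mid := 151552) (Upto.trans (mid := 147456) ((Upto.of_pow defs_ok_c35 (Nat.le_refl _)) : Upto _ _ 143360 (143360 + 2 ^ 12))
    ((Upto.of_pow defs_ok_c36 (Nat.le_refl _)) : Upto _ _ 147456 (147456 + 2 ^ 12)))
    (Upto.trans (mid := 155648) ((Upto.of_pow defs_ok_c37 (Nat.le_refl _)) : Upto _ _ 151552 (151552 + 2 ^ 12))
    (Upto.trans (mid := 159744) ((Upto.of_pow defs_ok_c38 (Nat.le_refl _)) : Upto _ _ 155648 (155648 + 2 ^ 12))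
    ((Upto.of_pow defs_ok_c39 (Nat.le_refl _)) : Upto _ _ 159744 (159744 + 2 ^ 12))))))))
    (Upto.trans (mid := 245760) (Upto.trans (mid := 204800) (Upto.trans (mid := 184320) (Upto.trans (mid := 172032) (Upto.trans (mid := 167936) ((Upto.of_pow defs_ok_c40 (Nat.le_refl _)) : Upto _ _ 163840 (163840 + 2 ^ 12))
    ((Upto.of_pow defs_ok_c41 (Nat.le_refl _)) : Upto _ _ 167936 (167936 + 2 ^ 12)))
    (Upto.trans (mid := 176128) ((Upto.of_pow defs_ok_c42 (Nat.le_refl _)) : Upto _ _ 172032 (172032 + 2 ^ 12))
    (Upto.trans (mid := 180224) ((Upto.of_pow defs_ok_c43 (Nat.le_refl _)) : Upto _ _ 176128 (176128 + 2 ^ 12))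
    ((Upto.of_pow defs_ok_c44 (Nat.le_refl _)) : Upto _ _ 180224 (180224 + 2 ^ 12)))))
    (Upto.trans (mid := 192512) (Upto.trans (mid := 188416) ((Upto.of_pow defs_ok_c45 (Nat.le_refl _)) : Upto _ _ 184320 (184320 + 2 ^ 12))
    ((Upto.of_pow defs_ok_c46 (Nat.le_refl _)) : Upto _ _ 188416 (188416 + 2 ^ 12)))
    (Upto.trans (mid := 196608) ((Upto.of_pow defs_ok_c47 (Nat.le_refl _)) : Upto _ _ 192512 (192512 + 2 ^ 12))
    (Upto.trans (mid := 200704) ((Upto.of_pow defs_ok_c48 (Nat.le_refl _)) : Upto _ _ 196608 (196608 + 2 ^ 12))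
    ((Upto.of_pow defs_ok_c49 (Nat.le_refl _)) : Upto _ _ 200704 (200704 + 2 ^ 12))))))
    (Upto.trans (mid := 225280) (Upto.trans (mid := 212992) (Upto.trans (mid := 208896) ((Upto.of_pow defs_ok_c50 (Nat.le_refl _)) : Upto _ _ 204800 (204800 + 2 ^ 12))
    ((Upto.of_pow defs_ok_c51 (Nat.le_refl _)) : Upto _ _ 208896 (208896 + 2 ^ 12)))
    (Upto.trans (mid := 217088) ((Upto.of_pow defs_ok_c52 (Nat.le_refl _)) : Upto _ _ 212992 (212992 + 2 ^ 12))
    (Upto.trans (mid := 221184) ((Upto.of_pow defs_ok_c53 (Nat.le_refl _)) : Upto _ _ 217088 (217088 + 2 ^ 12))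
    ((Upto.of_pow defs_ok_c54 (Nat.le_refl _)) : Upto _ _ 221184 (221184 + 2 ^ 12)))))
    (Upto.trans (mid := 233472) (Upto.trans (mid := 229376) ((Upto.of_pow defs_ok_c55 (Nat.le_refl _)) : Upto _ _ 225280 (225280 + 2 ^ 12))
    ((Upto.of_pow defs_ok_c56 (Nat.le_refl _)) : Upto _ _ 229376 (229376 + 2 ^ 12)))
    (Upto.trans (mid := 237568) ((Upto.of_pow defs_ok_c57 (Nat.le_refl _)) : Upto _ _ 233472 (233472 + 2 ^ 12))
    (Upto.trans (mid := 241664) ((Upto.of_pow defs_ok_c58 (Nat.le_refl _)) : Upto _ _ 237568 (237568 + 2 ^ 12))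
    ((Upto.of_pow defs_ok_c59 (Nat.le_refl _)) : Upto _ _ 241664 (241664 + 2 ^ 12)))))))
    (Upto.trans (mid := 286720) (Upto.trans (mid := 266240) (Upto.trans (mid := 253952) (Upto.trans (mid := 249856) ((Upto.of_pow defs_ok_c60 (Nat.le_refl _)) : Upto _ _ 245760 (245760 + 2 ^ 12))
    ((Upto.of_pow defs_ok_c61 (Nat.le_refl _)) : Upto _ _ 249856 (249856 + 2 ^ 12)))
    (Upto.trans (mid := 258048) ((Upto.of_pow defs_ok_c62 (Nat.le_refl _)) : Upto _ _ 253952 (253952 + 2 ^ 12))
    (Upto.trans (mid := 262144) ((Upto.of_pow defs_ok_c63 (Nat.le_refl _)) : Upto _ _ 258048 (258048 + 2 ^ 12))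
    ((Upto.of_pow defs_ok_c64 (Nat.le_refl _)) : Upto _ _ 262144 (262144 + 2 ^ 12)))))
    (Upto.trans (mid := 274432) (Upto.trans (mid := 270336) ((Upto.of_pow defs_ok_c65 (Nat.le_refl _)) : Upto _ _ 266240 (266240 + 2 ^ 12))
    ((Upto.of_pow defs_ok_c66 (Nat.le_refl _)) : Upto _ _ 270336 (270336 + 2 ^ 12)))
    (Upto.trans (mid := 278528) ((Upto.of_pow defs_ok_c67 (Nat.le_refl _)) : Upto _ _ 274432 (274432 + 2 ^ 12))
    (Upto.trans (mid := 282624) ((Upto.of_pow defs_ok_c68 (Nat.le_refl _)) : Upto _ _ 278528 (278528 + 2 ^ 12))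
    ((Upto.of_pow defs_ok_c69 (Nat.le_refl _)) : Upto _ _ 282624 (282624 + 2 ^ 12))))))
    (Upto.trans (mid := 307200) (Upto.trans (mid := 294912) (Upto.trans (mid := 290816) ((Upto.of_pow defs_ok_c70 (Nat.le_refl _)) : Upto _ _ 286720 (286720 + 2 ^ 12))
    ((Upto.of_pow defs_ok_c71 (Nat.le_refl _)) : Upto _ _ 290816 (290816 + 2 ^ 12)))
    (Upto.trans (mid := 299008) ((Upto.of_pow defs_ok_c72 (Nat.le_refl _)) : Upto _ _ 294912 (294912 + 2 ^ 12))
    (Upto.trans (mid := 303104) ((Upto.of_pow defs_ok_c73 (Nat.le_refl _)) : Upto _ _ 299008 (299008 + 2 ^ 12))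
    ((Upto.of_pow defs_ok_c74 (Nat.le_refl _)) : Upto _ _ 303104 (303104 + 2 ^ 12)))))
    (Upto.trans (mid := 319488) (Upto.trans (mid := 311296) ((Upto.of_pow defs_ok_c75 (Nat.le_refl _)) : Upto _ _ 307200 (307200 + 2 ^ 12))
    (Upto.trans (mid := 315392) ((Upto.of_pow defs_ok_c76 (Nat.le_refl _)) : Upto _ _ 311296 (311296 + 2 ^ 12))
    ((Upto.of_pow defs_ok_c77 (Nat.le_refl _)) : Upto _ _ 315392 (315392 + 2 ^ 12))))
    (Upto.trans (mid := 323584) ((Upto.of_pow defs_ok_c78 (Nat.le_refl _)) : Upto _ _ 319488 (319488 + 2 ^ 12))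
    (Upto.trans (mid := 327680) ((Upto.of_pow defs_ok_c79 (Nat.le_refl _)) : Upto _ _ 323584 (323584 + 2 ^ 12))
    ((Upto.of_pow defs_ok_c80 (Nat.le_refl _)) : Upto _ _ 327680 (327680 + 2 ^ 12)))))))))
    (by decide) (by decide)

theorem final1_c0 : allPow 126000 (finalStep fact node item1 T1 770542 1 126000) 10 0 = true := by decide +kernel
theorem final1_c1 : allPow 126000 (finalStep fact node item1 T1 770542 1 126000) 10 1024 = true := by decide +kernel
theorem final1_c2 : allPow 126000 (finalStep fact node item1 T1 770542 1 126000) 10 2048 = true := by decide +kernel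
theorem final1_c3 : allPow 126000 (finalStep fact node item1 T1 770542 1 126000) 10 3072 = true := by decide +kernel
theorem final1_c4 : allPow 126000 (finalStep fact node item1 T1 770542 1 126000) 10 4096 = true := by decide +kernel
theorem final1_c5 : allPow 126000 (finalStep fact node item1 T1 770542 1 126000) 10 5120 = true := by decide +kernel
theorem final1_c6 : allPow 126000 (finalStep fact node item1 T1 770542 1 126000) 10 6144 = true := by decide +kernel
theorem final1_c7 : allPow 126000 (finalStep fact node item1 T1 770542 1 126000) 10 7168 = true := by decide +kernel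
theorem final1_c8 : allPow 126000 (finalStep fact node item1 T1 770542 1 126000) 10 8192 = true := by decide +kernel
theorem final1_c9 : allPow 126000 (finalStep fact node item1 T1 770542 1 126000) 10 9216 = true := by decide +kernel
theorem final1_c10 : allPow 126000 (finalStep fact node item1 T1 770542 1 126000) 10 10240 = true := by decide +kernel
theorem final1_c11 : allPow 126000 (finalStep fact node item1 T1 770542 1 126000) 10 11264 = true := by decide +kernel
theorem final1_c12 : allPow 126000 (finalStep fact node item1 T1 770542 1 126000) 10 12288 = true := by decide +kernel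
theorem final1_c13 : allPow 126000 (finalStep fact node item1 T1 770542 1 126000) 10 13312 = true := by decide +kernel
theorem final1_c14 : allPow 126000 (finalStep fact node item1 T1 770542 1 126000) 10 14336 = true := by decide +kernel
theorem final1_c15 : allPow 126000 (finalStep fact node item1 T1 770542 1 126000) 10 15360 = true := by decide +kernel
theorem final1_c16 : allPow 126000 (finalStep fact node item1 T1 770542 1 126000) 10 16384 = true := by decide +kernel
theorem final1_c17 : allPow 126000 (finalStep fact node item1 T1 770542 1 126000) 10 17408 = true := by decide +kernel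
theorem final1_c18 : allPow 126000 (finalStep fact node item1 T1 770542 1 126000) 10 18432 = true := by decide +kernel
theorem final1_c19 : allPow 126000 (finalStep fact node item1 T1 770542 1 126000) 10 19456 = true := by decide +kernel
theorem final1_c20 : allPow 126000 (finalStep fact node item1 T1 770542 1 126000) 10 20480 = true := by decide +kernel
theorem final1_c21 : allPow 126000 (finalStep fact node item1 T1 770542 1 126000) 10 21504 = true := by decide +kernel
theorem final1_c22 : allPow 126000 (finalStep fact node item1 T1 770542 1 126000) 10 22528 = true := by decide +kernel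
theorem final1_c23 : allPow 126000 (finalStep fact node item1 T1 770542 1 126000) 10 23552 = true := by decide +kernel
theorem final1_c24 : allPow 126000 (finalStep fact node item1 T1 770542 1 126000) 10 24576 = true := by decide +kernel
theorem final1_c25 : allPow 126000 (finalStep fact node item1 T1 770542 1 126000) 10 25600 = true := by decide +kernel
theorem final1_c26 : allPow 126000 (finalStep fact node item1 T1 770542 1 126000) 10 26624 = true := by decide +kernel
theorem final1_c27 : allPow 126000 (finalStep fact node item1 T1 770542 1 126000) 10 27648 = true := by decide +kernel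
theorem final1_c28 : allPow 126000 (finalStep fact node item1 T1 770542 1 126000) 10 28672 = true := by decide +kernel
theorem final1_c29 : allPow 126000 (finalStep fact node item1 T1 770542 1 126000) 10 29696 = true := by decide +kernel
theorem final1_c30 : allPow 126000 (finalStep fact node item1 T1 770542 1 126000) 10 30720 = true := by decide +kernel
theorem final1_c31 : allPow 126000 (finalStep fact node item1 T1 770542 1 126000) 10 31744 = true := by decide +kernel
theorem final1_c32 : allPow 126000 (finalStep fact node item1 T1 770542 1 126000) 10 32768 = true := by decide +kernel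
theorem final1_c33 : allPow 126000 (finalStep fact node item1 T1 770542 1 126000) 10 33792 = true := by decide +kernel
theorem final1_c34 : allPow 126000 (finalStep fact node item1 T1 770542 1 126000) 10 34816 = true := by decide +kernel
theorem final1_c35 : allPow 126000 (finalStep fact node item1 T1 770542 1 126000) 10 35840 = true := by decide +kernel
theorem final1_c36 : allPow 126000 (finalStep fact node item1 T1 770542 1 126000) 10 36864 = true := by decide +kernel
theorem final1_c37 : allPow 126000 (finalStep fact node item1 T1 770542 1 126000) 10 37888 = true := by decide +kernel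
theorem final1_c38 : allPow 126000 (finalStep fact node item1 T1 770542 1 126000) 10 38912 = true := by decide +kernel
theorem final1_c39 : allPow 126000 (finalStep fact node item1 T1 770542 1 126000) 10 39936 = true := by decide +kernel
theorem final1_c40 : allPow 126000 (finalStep fact node item1 T1 770542 1 126000) 10 40960 = true := by decide +kernel
theorem final1_c41 : allPow 126000 (finalStep fact node item1 T1 770542 1 126000) 10 41984 = true := by decide +kernel
theorem final1_c42 : allPow 126000 (finalStep fact node item1 T1 770542 1 126000) 10 43008 = true := by decide +kernel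
theorem final1_c43 : allPow 126000 (finalStep fact node item1 T1 770542 1 126000) 10 44032 = true := by decide +kernel
theorem final1_c44 : allPow 126000 (finalStep fact node item1 T1 770542 1 126000) 10 45056 = true := by decide +kernel
theorem final1_c45 : allPow 126000 (finalStep fact node item1 T1 770542 1 126000) 10 46080 = true := by decide +kernel
theorem final1_c46 : allPow 126000 (finalStep fact node item1 T1 770542 1 126000) 10 47104 = true := by decide +kernel
theorem final1_c47 : allPow 126000 (finalStep fact node item1 T1 770542 1 126000) 10 48128 = true := by decide +kernel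
theorem final1_c48 : allPow 126000 (finalStep fact node item1 T1 770542 1 126000) 10 49152 = true := by decide +kernel
theorem final1_c49 : allPow 126000 (finalStep fact node item1 T1 770542 1 126000) 10 50176 = true := by decide +kernel
theorem final1_c50 : allPow 126000 (finalStep fact node item1 T1 770542 1 126000) 10 51200 = true := by decide +kernel
theorem final1_c51 : allPow 126000 (finalStep fact node item1 T1 770542 1 126000) 10 52224 = true := by decide +kernel
theorem final1_c52 : allPow 126000 (finalStep fact node item1 T1 770542 1 126000) 10 53248 = true := by decide +kernel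
theorem final1_c53 : allPow 126000 (finalStep fact node item1 T1 770542 1 126000) 10 54272 = true := by decide +kernel
theorem final1_c54 : allPow 126000 (finalStep fact node item1 T1 770542 1 126000) 10 55296 = true := by decide +kernel
theorem final1_c55 : allPow 126000 (finalStep fact node item1 T1 770542 1 126000) 10 56320 = true := by decide +kernel
theorem final1_c56 : allPow 126000 (finalStep fact node item1 T1 770542 1 126000) 10 57344 = true := by decide +kernel
theorem final1_c57 : allPow 126000 (finalStep fact node item1 T1 770542 1 126000) 10 58368 = true := by decide +kernel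
theorem final1_c58 : allPow 126000 (finalStep fact node item1 T1 770542 1 126000) 10 59392 = true := by decide +kernel
theorem final1_c59 : allPow 126000 (finalStep fact node item1 T1 770542 1 126000) 10 60416 = true := by decide +kernel
theorem final1_c60 : allPow 126000 (finalStep fact node item1 T1 770542 1 126000) 10 61440 = true := by decide +kernel
theorem final1_c61 : allPow 126000 (finalStep fact node item1 T1 770542 1 126000) 10 62464 = true := by decide +kernel
theorem final1_c62 : allPow 126000 (finalStep fact node item1 T1 770542 1 126000) 10 63488 = true := by decide +kernel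
theorem final1_c63 : allPow 126000 (finalStep fact node item1 T1 770542 1 126000) 10 64512 = true := by decide +kernel
theorem final1_c64 : allPow 126000 (finalStep fact node item1 T1 770542 1 126000) 10 65536 = true := by decide +kernel
theorem final1_c65 : allPow 126000 (finalStep fact node item1 T1 770542 1 126000) 10 66560 = true := by decide +kernel
theorem final1_c66 : allPow 126000 (finalStep fact node item1 T1 770542 1 126000) 10 67584 = true := by decide +kernel
theorem final1_c67 : allPow 126000 (finalStep fact node item1 T1 770542 1 126000) 10 68608 = true := by decide +kernel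
theorem final1_c68 : allPow 126000 (finalStep fact node item1 T1 770542 1 126000) 10 69632 = true := by decide +kernel
theorem final1_c69 : allPow 126000 (finalStep fact node item1 T1 770542 1 126000) 10 70656 = true := by decide +kernel
theorem final1_c70 : allPow 126000 (finalStep fact node item1 T1 770542 1 126000) 10 71680 = true := by decide +kernel
theorem final1_c71 : allPow 126000 (finalStep fact node item1 T1 770542 1 126000) 10 72704 = true := by decide +kernel
theorem final1_c72 : allPow 126000 (finalStep fact node item1 T1 770542 1 126000) 10 73728 = true := by decide +kernel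
theorem final1_c73 : allPow 126000 (finalStep fact node item1 T1 770542 1 126000) 10 74752 = true := by decide +kernel
theorem final1_c74 : allPow 126000 (finalStep fact node item1 T1 770542 1 126000) 10 75776 = true := by decide +kernel
theorem final1_c75 : allPow 126000 (finalStep fact node item1 T1 770542 1 126000) 10 76800 = true := by decide +kernel
theorem final1_c76 : allPow 126000 (finalStep fact node item1 T1 770542 1 126000) 10 77824 = true := by decide +kernel
theorem final1_c77 : allPow 126000 (finalStep fact node item1 T1 770542 1 126000) 10 78848 = true := by decide +kernel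
theorem final1_c78 : allPow 126000 (finalStep fact node item1 T1 770542 1 126000) 10 79872 = true := by decide +kernel
theorem final1_c79 : allPow 126000 (finalStep fact node item1 T1 770542 1 126000) 10 80896 = true := by decide +kernel
theorem final1_c80 : allPow 126000 (finalStep fact node item1 T1 770542 1 126000) 10 81920 = true := by decide +kernel
theorem final1_c81 : allPow 126000 (finalStep fact node item1 T1 770542 1 126000) 10 82944 = true := by decide +kernel
theorem final1_c82 : allPow 126000 (finalStep fact node item1 T1 770542 1 126000) 10 83968 = true := by decide +kernel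
theorem final1_c83 : allPow 126000 (finalStep fact node item1 T1 770542 1 126000) 10 84992 = true := by decide +kernel
theorem final1_c84 : allPow 126000 (finalStep fact node item1 T1 770542 1 126000) 10 86016 = true := by decide +kernel
theorem final1_c85 : allPow 126000 (finalStep fact node item1 T1 770542 1 126000) 10 87040 = true := by decide +kernel
theorem final1_c86 : allPow 126000 (finalStep fact node item1 T1 770542 1 126000) 10 88064 = true := by decide +kernel
theorem final1_c87 : allPow 126000 (finalStep fact node item1 T1 770542 1 126000) 10 89088 = true := by decide +kernel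
theorem final1_c88 : allPow 126000 (finalStep fact node item1 T1 770542 1 126000) 10 90112 = true := by decide +kernel
theorem final1_c89 : allPow 126000 (finalStep fact node item1 T1 770542 1 126000) 10 91136 = true := by decide +kernel
theorem final1_c90 : allPow 126000 (finalStep fact node item1 T1 770542 1 126000) 10 92160 = true := by decide +kernel
theorem final1_c91 : allPow 126000 (finalStep fact node item1 T1 770542 1 126000) 10 93184 = true := by decide +kernel
theorem final1_c92 : allPow 126000 (finalStep fact node item1 T1 770542 1 126000) 10 94208 = true := by decide +kernel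
theorem final1_c93 : allPow 126000 (finalStep fact node item1 T1 770542 1 126000) 10 95232 = true := by decide +kernel
theorem final1_c94 : allPow 126000 (finalStep fact node item1 T1 770542 1 126000) 10 96256 = true := by decide +kernel
theorem final1_c95 : allPow 126000 (finalStep fact node item1 T1 770542 1 126000) 10 97280 = true := by decide +kernel
theorem final1_c96 : allPow 126000 (finalStep fact node item1 T1 770542 1 126000) 10 98304 = true := by decide +kernel
theorem final1_c97 : allPow 126000 (finalStep fact node item1 T1 770542 1 126000) 10 99328 = true := by decide +kernel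
theorem final1_c98 : allPow 126000 (finalStep fact node item1 T1 770542 1 126000) 10 100352 = true := by decide +kernel
theorem final1_c99 : allPow 126000 (finalStep fact node item1 T1 770542 1 126000) 10 101376 = true := by decide +kernel
theorem final1_c100 : allPow 126000 (finalStep fact node item1 T1 770542 1 126000) 10 102400 = true := by decide +kernel
theorem final1_c101 : allPow 126000 (finalStep fact node item1 T1 770542 1 126000) 10 103424 = true := by decide +kernel
theorem final1_c102 : allPow 126000 (finalStep fact node item1 T1 770542 1 126000) 10 104448 = true := by decide +kernel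
theorem final1_c103 : allPow 126000 (finalStep fact node item1 T1 770542 1 126000) 10 105472 = true := by decide +kernel
theorem final1_c104 : allPow 126000 (finalStep fact node item1 T1 770542 1 126000) 10 106496 = true := by decide +kernel
theorem final1_c105 : allPow 126000 (finalStep fact node item1 T1 770542 1 126000) 10 107520 = true := by decide +kernel
theorem final1_c106 : allPow 126000 (finalStep fact node item1 T1 770542 1 126000) 10 108544 = true := by decide +kernel
theorem final1_c107 : allPow 126000 (finalStep fact node item1 T1 770542 1 126000) 10 109568 = true := by decide +kernel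
theorem final1_c108 : allPow 126000 (finalStep fact node item1 T1 770542 1 126000) 10 110592 = true := by decide +kernel
theorem final1_c109 : allPow 126000 (finalStep fact node item1 T1 770542 1 126000) 10 111616 = true := by decide +kernel
theorem final1_c110 : allPow 126000 (finalStep fact node item1 T1 770542 1 126000) 10 112640 = true := by decide +kernel
theorem final1_c111 : allPow 126000 (finalStep fact node item1 T1 770542 1 126000) 10 113664 = true := by decide +kernel
theorem final1_c112 : allPow 126000 (finalStep fact node item1 T1 770542 1 126000) 10 114688 = true := by decide +kernel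
theorem final1_c113 : allPow 126000 (finalStep fact node item1 T1 770542 1 126000) 10 115712 = true := by decide +kernel
theorem final1_c114 : allPow 126000 (finalStep fact node item1 T1 770542 1 126000) 10 116736 = true := by decide +kernel
theorem final1_c115 : allPow 126000 (finalStep fact node item1 T1 770542 1 126000) 10 117760 = true := by decide +kernel
theorem final1_c116 : allPow 126000 (finalStep fact node item1 T1 770542 1 126000) 10 118784 = true := by decide +kernel
theorem final1_c117 : allPow 126000 (finalStep fact node item1 T1 770542 1 126000) 10 119808 = true := by decide +kernel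
theorem final1_c118 : allPow 126000 (finalStep fact node item1 T1 770542 1 126000) 10 120832 = true := by decide +kernel
theorem final1_c119 : allPow 126000 (finalStep fact node item1 T1 770542 1 126000) 10 121856 = true := by decide +kernel
theorem final1_c120 : allPow 126000 (finalStep fact node item1 T1 770542 1 126000) 10 122880 = true := by decide +kernel
theorem final1_c121 : allPow 126000 (finalStep fact node item1 T1 770542 1 126000) 10 123904 = true := by decide +kernel
theorem final1_c122 : allPow 126000 (finalStep fact node item1 T1 770542 1 126000) 10 124928 = true := by decide +kernel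
theorem final1_c123 : allPow 126000 (finalStep fact node item1 T1 770542 1 126000) 10 125952 = true := by decide +kernel
theorem final1 : allBelow 17 126000 (finalStep fact node item1 T1 770542 1 126000) = true :=
  allBelow_of_upto (hi := 126976)
    (Upto.trans (mid := 63488) (Upto.trans (mid := 31744) (Upto.trans (mid := 15360) (Upto.trans (mid := 7168) (Upto.trans (mid := 3072) (Upto.trans (mid := 1024) ((Upto.of_pow final1_c0 (Nat.le_refl _)) : Upto _ _ 0 (0 + 2 ^ 10))
    (Upto.trans (mid := 2048) ((Upto.of_pow final1_c1 (Nat.le_refl _)) : Upto _ _ 1024 (1024 + 2 ^ 10))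
    ((Upto.of_pow final1_c2 (Nat.le_refl _)) : Upto _ _ 2048 (2048 + 2 ^ 10))))
    (Upto.trans (mid := 5120) (Upto.trans (mid := 4096) ((Upto.of_pow final1_c3 (Nat.le_refl _)) : Upto _ _ 3072 (3072 + 2 ^ 10))
    ((Upto.of_pow final1_c4 (Nat.le_refl _)) : Upto _ _ 4096 (4096 + 2 ^ 10)))
    (Upto.trans (mid := 6144) ((Upto.of_pow final1_c5 (Nat.le_refl _)) : Upto _ _ 5120 (5120 + 2 ^ 10))
    ((Upto.of_pow final1_c6 (Nat.le_refl _)) : Upto _ _ 6144 (6144 + 2 ^ 10)))))
    (Upto.trans (mid := 11264) (Upto.trans (mid := 9216) (Upto.trans (mid := 8192) ((Upto.of_pow final1_c7 (Nat.le_refl _)) : Upto _ _ 7168 (7168 + 2 ^ 10))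
    ((Upto.of_pow final1_c8 (Nat.le_refl _)) : Upto _ _ 8192 (8192 + 2 ^ 10)))
    (Upto.trans (mid := 10240) ((Upto.of_pow final1_c9 (Nat.le_refl _)) : Upto _ _ 9216 (9216 + 2 ^ 10))
    ((Upto.of_pow final1_c10 (Nat.le_refl _)) : Upto _ _ 10240 (10240 + 2 ^ 10))))
    (Upto.trans (mid := 13312) (Upto.trans (mid := 12288) ((Upto.of_pow final1_c11 (Nat.le_refl _)) : Upto _ _ 11264 (11264 + 2 ^ 10))
    ((Upto.of_pow final1_c12 (Nat.le_refl _)) : Upto _ _ 12288 (12288 + 2 ^ 10)))
    (Upto.trans (mid := 14336) ((Upto.of_pow final1_c13 (Nat.le_refl _)) : Upto _ _ 13312 (13312 + 2 ^ 10))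
    ((Upto.of_pow final1_c14 (Nat.le_refl _)) : Upto _ _ 14336 (14336 + 2 ^ 10))))))
    (Upto.trans (mid := 23552) (Upto.trans (mid := 19456) (Upto.trans (mid := 17408) (Upto.trans (mid := 16384) ((Upto.of_pow final1_c15 (Nat.le_refl _)) : Upto _ _ 15360 (15360 + 2 ^ 10))
    ((Upto.of_pow final1_c16 (Nat.le_refl _)) : Upto _ _ 16384 (16384 + 2 ^ 10)))
    (Upto.trans (mid := 18432) ((Upto.of_pow final1_c17 (Nat.le_refl _)) : Upto _ _ 17408 (17408 + 2 ^ 10))
    ((Upto.of_pow final1_c18 (Nat.le_refl _)) : Upto _ _ 18432 (18432 + 2 ^ 10))))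
    (Upto.trans (mid := 21504) (Upto.trans (mid := 20480) ((Upto.of_pow final1_c19 (Nat.le_refl _)) : Upto _ _ 19456 (19456 + 2 ^ 10))
    ((Upto.of_pow final1_c20 (Nat.le_refl _)) : Upto _ _ 20480 (20480 + 2 ^ 10)))
    (Upto.trans (mid := 22528) ((Upto.of_pow final1_c21 (Nat.le_refl _)) : Upto _ _ 21504 (21504 + 2 ^ 10))
    ((Upto.of_pow final1_c22 (Nat.le_refl _)) : Upto _ _ 22528 (22528 + 2 ^ 10)))))
    (Upto.trans (mid := 27648) (Upto.trans (mid := 25600) (Upto.trans (mid := 24576) ((Upto.of_pow final1_c23 (Nat.le_refl _)) : Upto _ _ 23552 (23552 + 2 ^ 10))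
    ((Upto.of_pow final1_c24 (Nat.le_refl _)) : Upto _ _ 24576 (24576 + 2 ^ 10)))
    (Upto.trans (mid := 26624) ((Upto.of_pow final1_c25 (Nat.le_refl _)) : Upto _ _ 25600 (25600 + 2 ^ 10))
    ((Upto.of_pow final1_c26 (Nat.le_refl _)) : Upto _ _ 26624 (26624 + 2 ^ 10))))
    (Upto.trans (mid := 29696) (Upto.trans (mid := 28672) ((Upto.of_pow final1_c27 (Nat.le_refl _)) : Upto _ _ 27648 (27648 + 2 ^ 10))
    ((Upto.of_pow final1_c28 (Nat.le_refl _)) : Upto _ _ 28672 (28672 + 2 ^ 10)))
    (Upto.trans (mid := 30720) ((Upto.of_pow final1_c29 (Nat.le_refl _)) : Upto _ _ 29696 (29696 + 2 ^ 10))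
    ((Upto.of_pow final1_c30 (Nat.le_refl _)) : Upto _ _ 30720 (30720 + 2 ^ 10)))))))
    (Upto.trans (mid := 47104) (Upto.trans (mid := 38912) (Upto.trans (mid := 34816) (Upto.trans (mid := 32768) ((Upto.of_pow final1_c31 (Nat.le_refl _)) : Upto _ _ 31744 (31744 + 2 ^ 10))
    (Upto.trans (mid := 33792) ((Upto.of_pow final1_c32 (Nat.le_refl _)) : Upto _ _ 32768 (32768 + 2 ^ 10))
    ((Upto.of_pow final1_c33 (Nat.le_refl _)) : Upto _ _ 33792 (33792 + 2 ^ 10))))
    (Upto.trans (mid := 36864) (Upto.trans (mid := 35840) ((Upto.of_pow final1_c34 (Nat.le_refl _)) : Upto _ _ 34816 (34816 + 2 ^ 10))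
    ((Upto.of_pow final1_c35 (Nat.le_refl _)) : Upto _ _ 35840 (35840 + 2 ^ 10)))
    (Upto.trans (mid := 37888) ((Upto.of_pow final1_c36 (Nat.le_refl _)) : Upto _ _ 36864 (36864 + 2 ^ 10))
    ((Upto.of_pow final1_c37 (Nat.le_refl _)) : Upto _ _ 37888 (37888 + 2 ^ 10)))))
    (Upto.trans (mid := 43008) (Upto.trans (mid := 40960) (Upto.trans (mid := 39936) ((Upto.of_pow final1_c38 (Nat.le_refl _)) : Upto _ _ 38912 (38912 + 2 ^ 10))
    ((Upto.of_pow final1_c39 (Nat.le_refl _)) : Upto _ _ 39936 (39936 + 2 ^ 10)))
    (Upto.trans (mid := 41984) ((Upto.of_pow final1_c40 (Nat.le_refl _)) : Upto _ _ 40960 (40960 + 2 ^ 10))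
    ((Upto.of_pow final1_c41 (Nat.le_refl _)) : Upto _ _ 41984 (41984 + 2 ^ 10))))
    (Upto.trans (mid := 45056) (Upto.trans (mid := 44032) ((Upto.of_pow final1_c42 (Nat.le_refl _)) : Upto _ _ 43008 (43008 + 2 ^ 10))
    ((Upto.of_pow final1_c43 (Nat.le_refl _)) : Upto _ _ 44032 (44032 + 2 ^ 10)))
    (Upto.trans (mid := 46080) ((Upto.of_pow final1_c44 (Nat.le_refl _)) : Upto _ _ 45056 (45056 + 2 ^ 10))
    ((Upto.of_pow final1_c45 (Nat.le_refl _)) : Upto _ _ 46080 (46080 + 2 ^ 10))))))
    (Upto.trans (mid := 55296) (Upto.trans (mid := 51200) (Upto.trans (mid := 49152) (Upto.trans (mid := 48128) ((Upto.of_pow final1_c46 (Nat.le_refl _)) : Upto _ _ 47104 (47104 + 2 ^ 10))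
    ((Upto.of_pow final1_c47 (Nat.le_refl _)) : Upto _ _ 48128 (48128 + 2 ^ 10)))
    (Upto.trans (mid := 50176) ((Upto.of_pow final1_c48 (Nat.le_refl _)) : Upto _ _ 49152 (49152 + 2 ^ 10))
    ((Upto.of_pow final1_c49 (Nat.le_refl _)) : Upto _ _ 50176 (50176 + 2 ^ 10))))
    (Upto.trans (mid := 53248) (Upto.trans (mid := 52224) ((Upto.of_pow final1_c50 (Nat.le_refl _)) : Upto _ _ 51200 (51200 + 2 ^ 10))
    ((Upto.of_pow final1_c51 (Nat.le_refl _)) : Upto _ _ 52224 (52224 + 2 ^ 10)))
    (Upto.trans (mid := 54272) ((Upto.of_pow final1_c52 (Nat.le_refl _)) : Upto _ _ 53248 (53248 + 2 ^ 10))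
    ((Upto.of_pow final1_c53 (Nat.le_refl _)) : Upto _ _ 54272 (54272 + 2 ^ 10)))))
    (Upto.trans (mid := 59392) (Upto.trans (mid := 57344) (Upto.trans (mid := 56320) ((Upto.of_pow final1_c54 (Nat.le_refl _)) : Upto _ _ 55296 (55296 + 2 ^ 10))
    ((Upto.of_pow final1_c55 (Nat.le_refl _)) : Upto _ _ 56320 (56320 + 2 ^ 10)))
    (Upto.trans (mid := 58368) ((Upto.of_pow final1_c56 (Nat.le_refl _)) : Upto _ _ 57344 (57344 + 2 ^ 10))
    ((Upto.of_pow final1_c57 (Nat.le_refl _)) : Upto _ _ 58368 (58368 + 2 ^ 10))))
    (Upto.trans (mid := 61440) (Upto.trans (mid := 60416) ((Upto.of_pow final1_c58 (Nat.le_refl _)) : Upto _ _ 59392 (59392 + 2 ^ 10))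
    ((Upto.of_pow final1_c59 (Nat.le_refl _)) : Upto _ _ 60416 (60416 + 2 ^ 10)))
    (Upto.trans (mid := 62464) ((Upto.of_pow final1_c60 (Nat.le_refl _)) : Upto _ _ 61440 (61440 + 2 ^ 10))
    ((Upto.of_pow final1_c61 (Nat.le_refl _)) : Upto _ _ 62464 (62464 + 2 ^ 10))))))))
    (Upto.trans (mid := 95232) (Upto.trans (mid := 78848) (Upto.trans (mid := 70656) (Upto.trans (mid := 66560) (Upto.trans (mid := 64512) ((Upto.of_pow final1_c62 (Nat.le_refl _)) : Upto _ _ 63488 (63488 + 2 ^ 10))
    (Upto.trans (mid := 65536) ((Upto.of_pow final1_c63 (Nat.le_refl _)) : Upto _ _ 64512 (64512 + 2 ^ 10))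
    ((Upto.of_pow final1_c64 (Nat.le_refl _)) : Upto _ _ 65536 (65536 + 2 ^ 10))))
    (Upto.trans (mid := 68608) (Upto.trans (mid := 67584) ((Upto.of_pow final1_c65 (Nat.le_refl _)) : Upto _ _ 66560 (66560 + 2 ^ 10))
    ((Upto.of_pow final1_c66 (Nat.le_refl _)) : Upto _ _ 67584 (67584 + 2 ^ 10)))
    (Upto.trans (mid := 69632) ((Upto.of_pow final1_c67 (Nat.le_refl _)) : Upto _ _ 68608 (68608 + 2 ^ 10))
    ((Upto.of_pow final1_c68 (Nat.le_refl _)) : Upto _ _ 69632 (69632 + 2 ^ 10)))))
    (Upto.trans (mid := 74752) (Upto.trans (mid := 72704) (Upto.trans (mid := 71680) ((Upto.of_pow final1_c69 (Nat.le_refl _)) : Upto _ _ 70656 (70656 + 2 ^ 10))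
    ((Upto.of_pow final1_c70 (Nat.le_refl _)) : Upto _ _ 71680 (71680 + 2 ^ 10)))
    (Upto.trans (mid := 73728) ((Upto.of_pow final1_c71 (Nat.le_refl _)) : Upto _ _ 72704 (72704 + 2 ^ 10))
    ((Upto.of_pow final1_c72 (Nat.le_refl _)) : Upto _ _ 73728 (73728 + 2 ^ 10))))
    (Upto.trans (mid := 76800) (Upto.trans (mid := 75776) ((Upto.of_pow final1_c73 (Nat.le_refl _)) : Upto _ _ 74752 (74752 + 2 ^ 10))
    ((Upto.of_pow final1_c74 (Nat.le_refl _)) : Upto _ _ 75776 (75776 + 2 ^ 10)))
    (Upto.trans (mid := 77824) ((Upto.of_pow final1_c75 (Nat.le_refl _)) : Upto _ _ 76800 (76800 + 2 ^ 10))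
    ((Upto.of_pow final1_c76 (Nat.le_refl _)) : Upto _ _ 77824 (77824 + 2 ^ 10))))))
    (Upto.trans (mid := 87040) (Upto.trans (mid := 82944) (Upto.trans (mid := 80896) (Upto.trans (mid := 79872) ((Upto.of_pow final1_c77 (Nat.le_refl _)) : Upto _ _ 78848 (78848 + 2 ^ 10))
    ((Upto.of_pow final1_c78 (Nat.le_refl _)) : Upto _ _ 79872 (79872 + 2 ^ 10)))
    (Upto.trans (mid := 81920) ((Upto.of_pow final1_c79 (Nat.le_refl _)) : Upto _ _ 80896 (80896 + 2 ^ 10))
    ((Upto.of_pow final1_c80 (Nat.le_refl _)) : Upto _ _ 81920 (81920 + 2 ^ 10))))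
    (Upto.trans (mid := 84992) (Upto.trans (mid := 83968) ((Upto.of_pow final1_c81 (Nat.le_refl _)) : Upto _ _ 82944 (82944 + 2 ^ 10))
    ((Upto.of_pow final1_c82 (Nat.le_refl _)) : Upto _ _ 83968 (83968 + 2 ^ 10)))
    (Upto.trans (mid := 86016) ((Upto.of_pow final1_c83 (Nat.le_refl _)) : Upto _ _ 84992 (84992 + 2 ^ 10))
    ((Upto.of_pow final1_c84 (Nat.le_refl _)) : Upto _ _ 86016 (86016 + 2 ^ 10)))))
    (Upto.trans (mid := 91136) (Upto.trans (mid := 89088) (Upto.trans (mid := 88064) ((Upto.of_pow final1_c85 (Nat.le_refl _)) : Upto _ _ 87040 (87040 + 2 ^ 10))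
    ((Upto.of_pow final1_c86 (Nat.le_refl _)) : Upto _ _ 88064 (88064 + 2 ^ 10)))
    (Upto.trans (mid := 90112) ((Upto.of_pow final1_c87 (Nat.le_refl _)) : Upto _ _ 89088 (89088 + 2 ^ 10))
    ((Upto.of_pow final1_c88 (Nat.le_refl _)) : Upto _ _ 90112 (90112 + 2 ^ 10))))
    (Upto.trans (mid := 93184) (Upto.trans (mid := 92160) ((Upto.of_pow final1_c89 (Nat.le_refl _)) : Upto _ _ 91136 (91136 + 2 ^ 10))
    ((Upto.of_pow final1_c90 (Nat.le_refl _)) : Upto _ _ 92160 (92160 + 2 ^ 10)))
    (Upto.trans (mid := 94208) ((Upto.of_pow final1_c91 (Nat.le_refl _)) : Upto _ _ 93184 (93184 + 2 ^ 10))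
    ((Upto.of_pow final1_c92 (Nat.le_refl _)) : Upto _ _ 94208 (94208 + 2 ^ 10)))))))
    (Upto.trans (mid := 110592) (Upto.trans (mid := 102400) (Upto.trans (mid := 98304) (Upto.trans (mid := 96256) ((Upto.of_pow final1_c93 (Nat.le_refl _)) : Upto _ _ 95232 (95232 + 2 ^ 10))
    (Upto.trans (mid := 97280) ((Upto.of_pow final1_c94 (Nat.le_refl _)) : Upto _ _ 96256 (96256 + 2 ^ 10))
    ((Upto.of_pow final1_c95 (Nat.le_refl _)) : Upto _ _ 97280 (97280 + 2 ^ 10))))
    (Upto.trans (mid := 100352) (Upto.trans (mid := 99328) ((Upto.of_pow final1_c96 (Nat.le_refl _)) : Upto _ _ 98304 (98304 + 2 ^ 10))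
    ((Upto.of_pow final1_c97 (Nat.le_refl _)) : Upto _ _ 99328 (99328 + 2 ^ 10)))
    (Upto.trans (mid := 101376) ((Upto.of_pow final1_c98 (Nat.le_refl _)) : Upto _ _ 100352 (100352 + 2 ^ 10))
    ((Upto.of_pow final1_c99 (Nat.le_refl _)) : Upto _ _ 101376 (101376 + 2 ^ 10)))))
    (Upto.trans (mid := 106496) (Upto.trans (mid := 104448) (Upto.trans (mid := 103424) ((Upto.of_pow final1_c100 (Nat.le_refl _)) : Upto _ _ 102400 (102400 + 2 ^ 10))
    ((Upto.of_pow final1_c101 (Nat.le_refl _)) : Upto _ _ 103424 (103424 + 2 ^ 10)))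
    (Upto.trans (mid := 105472) ((Upto.of_pow final1_c102 (Nat.le_refl _)) : Upto _ _ 104448 (104448 + 2 ^ 10))
    ((Upto.of_pow final1_c103 (Nat.le_refl _)) : Upto _ _ 105472 (105472 + 2 ^ 10))))
    (Upto.trans (mid := 108544) (Upto.trans (mid := 107520) ((Upto.of_pow final1_c104 (Nat.le_refl _)) : Upto _ _ 106496 (106496 + 2 ^ 10))
    ((Upto.of_pow final1_c105 (Nat.le_refl _)) : Upto _ _ 107520 (107520 + 2 ^ 10)))
    (Upto.trans (mid := 109568) ((Upto.of_pow final1_c106 (Nat.le_refl _)) : Upto _ _ 108544 (108544 + 2 ^ 10))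
    ((Upto.of_pow final1_c107 (Nat.le_refl _)) : Upto _ _ 109568 (109568 + 2 ^ 10))))))
    (Upto.trans (mid := 118784) (Upto.trans (mid := 114688) (Upto.trans (mid := 112640) (Upto.trans (mid := 111616) ((Upto.of_pow final1_c108 (Nat.le_refl _)) : Upto _ _ 110592 (110592 + 2 ^ 10))
    ((Upto.of_pow final1_c109 (Nat.le_refl _)) : Upto _ _ 111616 (111616 + 2 ^ 10)))
    (Upto.trans (mid := 113664) ((Upto.of_pow final1_c110 (Nat.le_refl _)) : Upto _ _ 112640 (112640 + 2 ^ 10))
    ((Upto.of_pow final1_c111 (Nat.le_refl _)) : Upto _ _ 113664 (113664 + 2 ^ 10))))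
    (Upto.trans (mid := 116736) (Upto.trans (mid := 115712) ((Upto.of_pow final1_c112 (Nat.le_refl _)) : Upto _ _ 114688 (114688 + 2 ^ 10))
    ((Upto.of_pow final1_c113 (Nat.le_refl _)) : Upto _ _ 115712 (115712 + 2 ^ 10)))
    (Upto.trans (mid := 117760) ((Upto.of_pow final1_c114 (Nat.le_refl _)) : Upto _ _ 116736 (116736 + 2 ^ 10))
    ((Upto.of_pow final1_c115 (Nat.le_refl _)) : Upto _ _ 117760 (117760 + 2 ^ 10)))))
    (Upto.trans (mid := 122880) (Upto.trans (mid := 120832) (Upto.trans (mid := 119808) ((Upto.of_pow final1_c116 (Nat.le_refl _)) : Upto _ _ 118784 (118784 + 2 ^ 10))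
    ((Upto.of_pow final1_c117 (Nat.le_refl _)) : Upto _ _ 119808 (119808 + 2 ^ 10)))
    (Upto.trans (mid := 121856) ((Upto.of_pow final1_c118 (Nat.le_refl _)) : Upto _ _ 120832 (120832 + 2 ^ 10))
    ((Upto.of_pow final1_c119 (Nat.le_refl _)) : Upto _ _ 121856 (121856 + 2 ^ 10))))
    (Upto.trans (mid := 124928) (Upto.trans (mid := 123904) ((Upto.of_pow final1_c120 (Nat.le_refl _)) : Upto _ _ 122880 (122880 + 2 ^ 10))
    ((Upto.of_pow final1_c121 (Nat.le_refl _)) : Upto _ _ 123904 (123904 + 2 ^ 10)))
    (Upto.trans (mid := 125952) ((Upto.of_pow final1_c122 (Nat.le_refl _)) : Upto _ _ 124928 (124928 + 2 ^ 10))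
    ((Upto.of_pow final1_c123 (Nat.le_refl _)) : Upto _ _ 125952 (125952 + 2 ^ 10)))))))))
    (by decide) (by decide)

theorem final2_c0 : allPow 126000 (finalStep fact node item2 T2 770542 2 126000) 10 0 = true := by decide +kernel
theorem final2_c1 : allPow 126000 (finalStep fact node item2 T2 770542 2 126000) 10 1024 = true := by decide +kernel
theorem final2_c2 : allPow 126000 (finalStep fact node item2 T2 770542 2 126000) 10 2048 = true := by decide +kernel
theorem final2_c3 : allPow 126000 (finalStep fact node item2 T2 770542 2 126000) 10 3072 = true := by decide +kernel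
theorem final2_c4 : allPow 126000 (finalStep fact node item2 T2 770542 2 126000) 10 4096 = true := by decide +kernel
theorem final2_c5 : allPow 126000 (finalStep fact node item2 T2 770542 2 126000) 10 5120 = true := by decide +kernel
theorem final2_c6 : allPow 126000 (finalStep fact node item2 T2 770542 2 126000) 10 6144 = true := by decide +kernel
theorem final2_c7 : allPow 126000 (finalStep fact node item2 T2 770542 2 126000) 10 7168 = true := by decide +kernel
theorem final2_c8 : allPow 126000 (finalStep fact node item2 T2 770542 2 126000) 10 8192 = true := by decide +kernel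
theorem final2_c9 : allPow 126000 (finalStep fact node item2 T2 770542 2 126000) 10 9216 = true := by decide +kernel
theorem final2_c10 : allPow 126000 (finalStep fact node item2 T2 770542 2 126000) 10 10240 = true := by decide +kernel
theorem final2_c11 : allPow 126000 (finalStep fact node item2 T2 770542 2 126000) 10 11264 = true := by decide +kernel
theorem final2_c12 : allPow 126000 (finalStep fact node item2 T2 770542 2 126000) 10 12288 = true := by decide +kernel
theorem final2_c13 : allPow 126000 (finalStep fact node item2 T2 770542 2 126000) 10 13312 = true := by decide +kernel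
theorem final2_c14 : allPow 126000 (finalStep fact node item2 T2 770542 2 126000) 10 14336 = true := by decide +kernel
theorem final2_c15 : allPow 126000 (finalStep fact node item2 T2 770542 2 126000) 10 15360 = true := by decide +kernel
theorem final2_c16 : allPow 126000 (finalStep fact node item2 T2 770542 2 126000) 10 16384 = true := by decide +kernel
theorem final2_c17 : allPow 126000 (finalStep fact node item2 T2 770542 2 126000) 10 17408 = true := by decide +kernel
theorem final2_c18 : allPow 126000 (finalStep fact node item2 T2 770542 2 126000) 10 18432 = true := by decide +kernel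
theorem final2_c19 : allPow 126000 (finalStep fact node item2 T2 770542 2 126000) 10 19456 = true := by decide +kernel
theorem final2_c20 : allPow 126000 (finalStep fact node item2 T2 770542 2 126000) 10 20480 = true := by decide +kernel
theorem final2_c21 : allPow 126000 (finalStep fact node item2 T2 770542 2 126000) 10 21504 = true := by decide +kernel
theorem final2_c22 : allPow 126000 (finalStep fact node item2 T2 770542 2 126000) 10 22528 = true := by decide +kernel
theorem final2_c23 : allPow 126000 (finalStep fact node item2 T2 770542 2 126000) 10 23552 = true := by decide +kernel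
theorem final2_c24 : allPow 126000 (finalStep fact node item2 T2 770542 2 126000) 10 24576 = true := by decide +kernel
theorem final2_c25 : allPow 126000 (finalStep fact node item2 T2 770542 2 126000) 10 25600 = true := by decide +kernel
theorem final2_c26 : allPow 126000 (finalStep fact node item2 T2 770542 2 126000) 10 26624 = true := by decide +kernel
theorem final2_c27 : allPow 126000 (finalStep fact node item2 T2 770542 2 126000) 10 27648 = true := by decide +kernel
theorem final2_c28 : allPow 126000 (finalStep fact node item2 T2 770542 2 126000) 10 28672 = true := by decide +kernel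
theorem final2_c29 : allPow 126000 (finalStep fact node item2 T2 770542 2 126000) 10 29696 = true := by decide +kernel
theorem final2_c30 : allPow 126000 (finalStep fact node item2 T2 770542 2 126000) 10 30720 = true := by decide +kernel
theorem final2_c31 : allPow 126000 (finalStep fact node item2 T2 770542 2 126000) 10 31744 = true := by decide +kernel
theorem final2_c32 : allPow 126000 (finalStep fact node item2 T2 770542 2 126000) 10 32768 = true := by decide +kernel
theorem final2_c33 : allPow 126000 (finalStep fact node item2 T2 770542 2 126000) 10 33792 = true := by decide +kernel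
theorem final2_c34 : allPow 126000 (finalStep fact node item2 T2 770542 2 126000) 10 34816 = true := by decide +kernel
theorem final2_c35 : allPow 126000 (finalStep fact node item2 T2 770542 2 126000) 10 35840 = true := by decide +kernel
theorem final2_c36 : allPow 126000 (finalStep fact node item2 T2 770542 2 126000) 10 36864 = true := by decide +kernel
theorem final2_c37 : allPow 126000 (finalStep fact node item2 T2 770542 2 126000) 10 37888 = true := by decide +kernel
theorem final2_c38 : allPow 126000 (finalStep fact node item2 T2 770542 2 126000) 10 38912 = true := by decide +kernel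
theorem final2_c39 : allPow 126000 (finalStep fact node item2 T2 770542 2 126000) 10 39936 = true := by decide +kernel
theorem final2_c40 : allPow 126000 (finalStep fact node item2 T2 770542 2 126000) 10 40960 = true := by decide +kernel
theorem final2_c41 : allPow 126000 (finalStep fact node item2 T2 770542 2 126000) 10 41984 = true := by decide +kernel
theorem final2_c42 : allPow 126000 (finalStep fact node item2 T2 770542 2 126000) 10 43008 = true := by decide +kernel
theorem final2_c43 : allPow 126000 (finalStep fact node item2 T2 770542 2 126000) 10 44032 = true := by decide +kernel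
theorem final2_c44 : allPow 126000 (finalStep fact node item2 T2 770542 2 126000) 10 45056 = true := by decide +kernel
theorem final2_c45 : allPow 126000 (finalStep fact node item2 T2 770542 2 126000) 10 46080 = true := by decide +kernel
theorem final2_c46 : allPow 126000 (finalStep fact node item2 T2 770542 2 126000) 10 47104 = true := by decide +kernel
theorem final2_c47 : allPow 126000 (finalStep fact node item2 T2 770542 2 126000) 10 48128 = true := by decide +kernel
theorem final2_c48 : allPow 126000 (finalStep fact node item2 T2 770542 2 126000) 10 49152 = true := by decide +kernel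
theorem final2_c49 : allPow 126000 (finalStep fact node item2 T2 770542 2 126000) 10 50176 = true := by decide +kernel
theorem final2_c50 : allPow 126000 (finalStep fact node item2 T2 770542 2 126000) 10 51200 = true := by decide +kernel
theorem final2_c51 : allPow 126000 (finalStep fact node item2 T2 770542 2 126000) 10 52224 = true := by decide +kernel
theorem final2_c52 : allPow 126000 (finalStep fact node item2 T2 770542 2 126000) 10 53248 = true := by decide +kernel
theorem final2_c53 : allPow 126000 (finalStep fact node item2 T2 770542 2 126000) 10 54272 = true := by decide +kernel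
theorem final2_c54 : allPow 126000 (finalStep fact node item2 T2 770542 2 126000) 10 55296 = true := by decide +kernel
theorem final2_c55 : allPow 126000 (finalStep fact node item2 T2 770542 2 126000) 10 56320 = true := by decide +kernel
theorem final2_c56 : allPow 126000 (finalStep fact node item2 T2 770542 2 126000) 10 57344 = true := by decide +kernel
theorem final2_c57 : allPow 126000 (finalStep fact node item2 T2 770542 2 126000) 10 58368 = true := by decide +kernel
theorem final2_c58 : allPow 126000 (finalStep fact node item2 T2 770542 2 126000) 10 59392 = true := by decide +kernel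
theorem final2_c59 : allPow 126000 (finalStep fact node item2 T2 770542 2 126000) 10 60416 = true := by decide +kernel
theorem final2_c60 : allPow 126000 (finalStep fact node item2 T2 770542 2 126000) 10 61440 = true := by decide +kernel
theorem final2_c61 : allPow 126000 (finalStep fact node item2 T2 770542 2 126000) 10 62464 = true := by decide +kernel
theorem final2_c62 : allPow 126000 (finalStep fact node item2 T2 770542 2 126000) 10 63488 = true := by decide +kernel
theorem final2_c63 : allPow 126000 (finalStep fact node item2 T2 770542 2 126000) 10 64512 = true := by decide +kernel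
theorem final2_c64 : allPow 126000 (finalStep fact node item2 T2 770542 2 126000) 10 65536 = true := by decide +kernel
theorem final2_c65 : allPow 126000 (finalStep fact node item2 T2 770542 2 126000) 10 66560 = true := by decide +kernel
theorem final2_c66 : allPow 126000 (finalStep fact node item2 T2 770542 2 126000) 10 67584 = true := by decide +kernel
theorem final2_c67 : allPow 126000 (finalStep fact node item2 T2 770542 2 126000) 10 68608 = true := by decide +kernel
theorem final2_c68 : allPow 126000 (finalStep fact node item2 T2 770542 2 126000) 10 69632 = true := by decide +kernel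
theorem final2_c69 : allPow 126000 (finalStep fact node item2 T2 770542 2 126000) 10 70656 = true := by decide +kernel
theorem final2_c70 : allPow 126000 (finalStep fact node item2 T2 770542 2 126000) 10 71680 = true := by decide +kernel
theorem final2_c71 : allPow 126000 (finalStep fact node item2 T2 770542 2 126000) 10 72704 = true := by decide +kernel
theorem final2_c72 : allPow 126000 (finalStep fact node item2 T2 770542 2 126000) 10 73728 = true := by decide +kernel
theorem final2_c73 : allPow 126000 (finalStep fact node item2 T2 770542 2 126000) 10 74752 = true := by decide +kernel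
theorem final2_c74 : allPow 126000 (finalStep fact node item2 T2 770542 2 126000) 10 75776 = true := by decide +kernel
theorem final2_c75 : allPow 126000 (finalStep fact node item2 T2 770542 2 126000) 10 76800 = true := by decide +kernel
theorem final2_c76 : allPow 126000 (finalStep fact node item2 T2 770542 2 126000) 10 77824 = true := by decide +kernel
theorem final2_c77 : allPow 126000 (finalStep fact node item2 T2 770542 2 126000) 10 78848 = true := by decide +kernel
theorem final2_c78 : allPow 126000 (finalStep fact node item2 T2 770542 2 126000) 10 79872 = true := by decide +kernel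
theorem final2_c79 : allPow 126000 (finalStep fact node item2 T2 770542 2 126000) 10 80896 = true := by decide +kernel
theorem final2_c80 : allPow 126000 (finalStep fact node item2 T2 770542 2 126000) 10 81920 = true := by decide +kernel
theorem final2_c81 : allPow 126000 (finalStep fact node item2 T2 770542 2 126000) 10 82944 = true := by decide +kernel
theorem final2_c82 : allPow 126000 (finalStep fact node item2 T2 770542 2 126000) 10 83968 = true := by decide +kernel
theorem final2_c83 : allPow 126000 (finalStep fact node item2 T2 770542 2 126000) 10 84992 = true := by decide +kernel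
theorem final2_c84 : allPow 126000 (finalStep fact node item2 T2 770542 2 126000) 10 86016 = true := by decide +kernel
theorem final2_c85 : allPow 126000 (finalStep fact node item2 T2 770542 2 126000) 10 87040 = true := by decide +kernel
theorem final2_c86 : allPow 126000 (finalStep fact node item2 T2 770542 2 126000) 10 88064 = true := by decide +kernel
theorem final2_c87 : allPow 126000 (finalStep fact node item2 T2 770542 2 126000) 10 89088 = true := by decide +kernel
theorem final2_c88 : allPow 126000 (finalStep fact node item2 T2 770542 2 126000) 10 90112 = true := by decide +kernel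
theorem final2_c89 : allPow 126000 (finalStep fact node item2 T2 770542 2 126000) 10 91136 = true := by decide +kernel
theorem final2_c90 : allPow 126000 (finalStep fact node item2 T2 770542 2 126000) 10 92160 = true := by decide +kernel
theorem final2_c91 : allPow 126000 (finalStep fact node item2 T2 770542 2 126000) 10 93184 = true := by decide +kernel
theorem final2_c92 : allPow 126000 (finalStep fact node item2 T2 770542 2 126000) 10 94208 = true := by decide +kernel
theorem final2_c93 : allPow 126000 (finalStep fact node item2 T2 770542 2 126000) 10 95232 = true := by decide +kernel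
theorem final2_c94 : allPow 126000 (finalStep fact node item2 T2 770542 2 126000) 10 96256 = true := by decide +kernel
theorem final2_c95 : allPow 126000 (finalStep fact node item2 T2 770542 2 126000) 10 97280 = true := by decide +kernel
theorem final2_c96 : allPow 126000 (finalStep fact node item2 T2 770542 2 126000) 10 98304 = true := by decide +kernel
theorem final2_c97 : allPow 126000 (finalStep fact node item2 T2 770542 2 126000) 10 99328 = true := by decide +kernel
theorem final2_c98 : allPow 126000 (finalStep fact node item2 T2 770542 2 126000) 10 100352 = true := by decide +kernel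
theorem final2_c99 : allPow 126000 (finalStep fact node item2 T2 770542 2 126000) 10 101376 = true := by decide +kernel
theorem final2_c100 : allPow 126000 (finalStep fact node item2 T2 770542 2 126000) 10 102400 = true := by decide +kernel
theorem final2_c101 : allPow 126000 (finalStep fact node item2 T2 770542 2 126000) 10 103424 = true := by decide +kernel
theorem final2_c102 : allPow 126000 (finalStep fact node item2 T2 770542 2 126000) 10 104448 = true := by decide +kernel
theorem final2_c103 : allPow 126000 (finalStep fact node item2 T2 770542 2 126000) 10 105472 = true := by decide +kernel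
theorem final2_c104 : allPow 126000 (finalStep fact node item2 T2 770542 2 126000) 10 106496 = true := by decide +kernel
theorem final2_c105 : allPow 126000 (finalStep fact node item2 T2 770542 2 126000) 10 107520 = true := by decide +kernel
theorem final2_c106 : allPow 126000 (finalStep fact node item2 T2 770542 2 126000) 10 108544 = true := by decide +kernel
theorem final2_c107 : allPow 126000 (finalStep fact node item2 T2 770542 2 126000) 10 109568 = true := by decide +kernel
theorem final2_c108 : allPow 126000 (finalStep fact node item2 T2 770542 2 126000) 10 110592 = true := by decide +kernel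
theorem final2_c109 : allPow 126000 (finalStep fact node item2 T2 770542 2 126000) 10 111616 = true := by decide +kernel
theorem final2_c110 : allPow 126000 (finalStep fact node item2 T2 770542 2 126000) 10 112640 = true := by decide +kernel
theorem final2_c111 : allPow 126000 (finalStep fact node item2 T2 770542 2 126000) 10 113664 = true := by decide +kernel
theorem final2_c112 : allPow 126000 (finalStep fact node item2 T2 770542 2 126000) 10 114688 = true := by decide +kernel
theorem final2_c113 : allPow 126000 (finalStep fact node item2 T2 770542 2 126000) 10 115712 = true := by decide +kernel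
theorem final2_c114 : allPow 126000 (finalStep fact node item2 T2 770542 2 126000) 10 116736 = true := by decide +kernel
theorem final2_c115 : allPow 126000 (finalStep fact node item2 T2 770542 2 126000) 10 117760 = true := by decide +kernel
theorem final2_c116 : allPow 126000 (finalStep fact node item2 T2 770542 2 126000) 10 118784 = true := by decide +kernel
theorem final2_c117 : allPow 126000 (finalStep fact node item2 T2 770542 2 126000) 10 119808 = true := by decide +kernel
theorem final2_c118 : allPow 126000 (finalStep fact node item2 T2 770542 2 126000) 10 120832 = true := by decide +kernel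
theorem final2_c119 : allPow 126000 (finalStep fact node item2 T2 770542 2 126000) 10 121856 = true := by decide +kernel
theorem final2_c120 : allPow 126000 (finalStep fact node item2 T2 770542 2 126000) 10 122880 = true := by decide +kernel
theorem final2_c121 : allPow 126000 (finalStep fact node item2 T2 770542 2 126000) 10 123904 = true := by decide +kernel
theorem final2_c122 : allPow 126000 (finalStep fact node item2 T2 770542 2 126000) 10 124928 = true := by decide +kernel
theorem final2_c123 : allPow 126000 (finalStep fact node item2 T2 770542 2 126000) 10 125952 = true := by decide +kernel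
theorem final2 : allBelow 17 126000 (finalStep fact node item2 T2 770542 2 126000) = true :=
  allBelow_of_upto (hi := 126976)
    (Upto.trans (mid := 63488) (Upto.trans (mid := 31744) (Upto.trans (mid := 15360) (Upto.trans (mid := 7168) (Upto.trans (mid := 3072) (Upto.trans (mid := 1024) ((Upto.of_pow final2_c0 (Nat.le_refl _)) : Upto _ _ 0 (0 + 2 ^ 10))
    (Upto.trans (mid := 2048) ((Upto.of_pow final2_c1 (Nat.le_refl _)) : Upto _ _ 1024 (1024 + 2 ^ 10))
    ((Upto.of_pow final2_c2 (Nat.le_refl _)) : Upto _ _ 2048 (2048 + 2 ^ 10))))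
    (Upto.trans (mid := 5120) (Upto.trans (mid := 4096) ((Upto.of_pow final2_c3 (Nat.le_refl _)) : Upto _ _ 3072 (3072 + 2 ^ 10))
    ((Upto.of_pow final2_c4 (Nat.le_refl _)) : Upto _ _ 4096 (4096 + 2 ^ 10)))
    (Upto.trans (mid := 6144) ((Upto.of_pow final2_c5 (Nat.le_refl _)) : Upto _ _ 5120 (5120 + 2 ^ 10))
    ((Upto.of_pow final2_c6 (Nat.le_refl _)) : Upto _ _ 6144 (6144 + 2 ^ 10)))))
    (Upto.trans (mid := 11264) (Upto.trans (mid := 9216) (Upto.trans (mid := 8192) ((Upto.of_pow final2_c7 (Nat.le_refl _)) : Upto _ _ 7168 (7168 + 2 ^ 10))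
    ((Upto.of_pow final2_c8 (Nat.le_refl _)) : Upto _ _ 8192 (8192 + 2 ^ 10)))
    (Upto.trans (mid := 10240) ((Upto.of_pow final2_c9 (Nat.le_refl _)) : Upto _ _ 9216 (9216 + 2 ^ 10))
    ((Upto.of_pow final2_c10 (Nat.le_refl _)) : Upto _ _ 10240 (10240 + 2 ^ 10))))
    (Upto.trans (mid := 13312) (Upto.trans (mid := 12288) ((Upto.of_pow final2_c11 (Nat.le_refl _)) : Upto _ _ 11264 (11264 + 2 ^ 10))
    ((Upto.of_pow final2_c12 (Nat.le_refl _)) : Upto _ _ 12288 (12288 + 2 ^ 10)))
    (Upto.trans (mid := 14336) ((Upto.of_pow final2_c13 (Nat.le_refl _)) : Upto _ _ 13312 (13312 + 2 ^ 10))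
    ((Upto.of_pow final2_c14 (Nat.le_refl _)) : Upto _ _ 14336 (14336 + 2 ^ 10))))))
    (Upto.trans (mid := 23552) (Upto.trans (mid := 19456) (Upto.trans (mid := 17408) (Upto.trans (mid := 16384) ((Upto.of_pow final2_c15 (Nat.le_refl _)) : Upto _ _ 15360 (15360 + 2 ^ 10))
    ((Upto.of_pow final2_c16 (Nat.le_refl _)) : Upto _ _ 16384 (16384 + 2 ^ 10)))
    (Upto.trans (mid := 18432) ((Upto.of_pow final2_c17 (Nat.le_refl _)) : Upto _ _ 17408 (17408 + 2 ^ 10))
    ((Upto.of_pow final2_c18 (Nat.le_refl _)) : Upto _ _ 18432 (18432 + 2 ^ 10))))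
    (Upto.trans (mid := 21504) (Upto.trans (mid := 20480) ((Upto.of_pow final2_c19 (Nat.le_refl _)) : Upto _ _ 19456 (19456 + 2 ^ 10))
    ((Upto.of_pow final2_c20 (Nat.le_refl _)) : Upto _ _ 20480 (20480 + 2 ^ 10)))
    (Upto.trans (mid := 22528) ((Upto.of_pow final2_c21 (Nat.le_refl _)) : Upto _ _ 21504 (21504 + 2 ^ 10))
    ((Upto.of_pow final2_c22 (Nat.le_refl _)) : Upto _ _ 22528 (22528 + 2 ^ 10)))))
    (Upto.trans (mid := 27648) (Upto.trans (mid := 25600) (Upto.trans (mid := 24576) ((Upto.of_pow final2_c23 (Nat.le_refl _)) : Upto _ _ 23552 (23552 + 2 ^ 10))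
    ((Upto.of_pow final2_c24 (Nat.le_refl _)) : Upto _ _ 24576 (24576 + 2 ^ 10)))
    (Upto.trans (mid := 26624) ((Upto.of_pow final2_c25 (Nat.le_refl _)) : Upto _ _ 25600 (25600 + 2 ^ 10))
    ((Upto.of_pow final2_c26 (Nat.le_refl _)) : Upto _ _ 26624 (26624 + 2 ^ 10))))
    (Upto.trans (mid := 29696) (Upto.trans (mid := 28672) ((Upto.of_pow final2_c27 (Nat.le_refl _)) : Upto _ _ 27648 (27648 + 2 ^ 10))
    ((Upto.of_pow final2_c28 (Nat.le_refl _)) : Upto _ _ 28672 (28672 + 2 ^ 10)))
    (Upto.trans (mid := 30720) ((Upto.of_pow final2_c29 (Nat.le_refl _)) : Upto _ _ 29696 (29696 + 2 ^ 10))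
    ((Upto.of_pow final2_c30 (Nat.le_refl _)) : Upto _ _ 30720 (30720 + 2 ^ 10)))))))
    (Upto.trans (mid := 47104) (Upto.trans (mid := 38912) (Upto.trans (mid := 34816) (Upto.trans (mid := 32768) ((Upto.of_pow final2_c31 (Nat.le_refl _)) : Upto _ _ 31744 (31744 + 2 ^ 10))
    (Upto.trans (mid := 33792) ((Upto.of_pow final2_c32 (Nat.le_refl _)) : Upto _ _ 32768 (32768 + 2 ^ 10))
    ((Upto.of_pow final2_c33 (Nat.le_refl _)) : Upto _ _ 33792 (33792 + 2 ^ 10))))
    (Upto.trans (mid := 36864) (Upto.trans (mid := 35840) ((Upto.of_pow final2_c34 (Nat.le_refl _)) : Upto _ _ 34816 (34816 + 2 ^ 10))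
    ((Upto.of_pow final2_c35 (Nat.le_refl _)) : Upto _ _ 35840 (35840 + 2 ^ 10)))
    (Upto.trans (mid := 37888) ((Upto.of_pow final2_c36 (Nat.le_refl _)) : Upto _ _ 36864 (36864 + 2 ^ 10))
    ((Upto.of_pow final2_c37 (Nat.le_refl _)) : Upto _ _ 37888 (37888 + 2 ^ 10)))))
    (Upto.trans (mid := 43008) (Upto.trans (mid := 40960) (Upto.trans (mid := 39936) ((Upto.of_pow final2_c38 (Nat.le_refl _)) : Upto _ _ 38912 (38912 + 2 ^ 10))
    ((Upto.of_pow final2_c39 (Nat.le_refl _)) : Upto _ _ 39936 (39936 + 2 ^ 10)))
    (Upto.trans (mid := 41984) ((Upto.of_pow final2_c40 (Nat.le_refl _)) : Upto _ _ 40960 (40960 + 2 ^ 10))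
    ((Upto.of_pow final2_c41 (Nat.le_refl _)) : Upto _ _ 41984 (41984 + 2 ^ 10))))
    (Upto.trans (mid := 45056) (Upto.trans (mid := 44032) ((Upto.of_pow final2_c42 (Nat.le_refl _)) : Upto _ _ 43008 (43008 + 2 ^ 10))
    ((Upto.of_pow final2_c43 (Nat.le_refl _)) : Upto _ _ 44032 (44032 + 2 ^ 10)))
    (Upto.trans (mid := 46080) ((Upto.of_pow final2_c44 (Nat.le_refl _)) : Upto _ _ 45056 (45056 + 2 ^ 10))
    ((Upto.of_pow final2_c45 (Nat.le_refl _)) : Upto _ _ 46080 (46080 + 2 ^ 10))))))
    (Upto.trans (mid := 55296) (Upto.trans (mid := 51200) (Upto.trans (mid := 49152) (Upto.trans (mid := 48128) ((Upto.of_pow final2_c46 (Nat.le_refl _)) : Upto _ _ 47104 (47104 + 2 ^ 10))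
    ((Upto.of_pow final2_c47 (Nat.le_refl _)) : Upto _ _ 48128 (48128 + 2 ^ 10)))
    (Upto.trans (mid := 50176) ((Upto.of_pow final2_c48 (Nat.le_refl _)) : Upto _ _ 49152 (49152 + 2 ^ 10))
    ((Upto.of_pow final2_c49 (Nat.le_refl _)) : Upto _ _ 50176 (50176 + 2 ^ 10))))
    (Upto.trans (mid := 53248) (Upto.trans (mid := 52224) ((Upto.of_pow final2_c50 (Nat.le_refl _)) : Upto _ _ 51200 (51200 + 2 ^ 10))
    ((Upto.of_pow final2_c51 (Nat.le_refl _)) : Upto _ _ 52224 (52224 + 2 ^ 10)))
    (Upto.trans (mid := 54272) ((Upto.of_pow final2_c52 (Nat.le_refl _)) : Upto _ _ 53248 (53248 + 2 ^ 10))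
    ((Upto.of_pow final2_c53 (Nat.le_refl _)) : Upto _ _ 54272 (54272 + 2 ^ 10)))))
    (Upto.trans (mid := 59392) (Upto.trans (mid := 57344) (Upto.trans (mid := 56320) ((Upto.of_pow final2_c54 (Nat.le_refl _)) : Upto _ _ 55296 (55296 + 2 ^ 10))
    ((Upto.of_pow final2_c55 (Nat.le_refl _)) : Upto _ _ 56320 (56320 + 2 ^ 10)))
    (Upto.trans (mid := 58368) ((Upto.of_pow final2_c56 (Nat.le_refl _)) : Upto _ _ 57344 (57344 + 2 ^ 10))
    ((Upto.of_pow final2_c57 (Nat.le_refl _)) : Upto _ _ 58368 (58368 + 2 ^ 10))))
    (Upto.trans (mid := 61440) (Upto.trans (mid := 60416) ((Upto.of_pow final2_c58 (Nat.le_refl _)) : Upto _ _ 59392 (59392 + 2 ^ 10))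
    ((Upto.of_pow final2_c59 (Nat.le_refl _)) : Upto _ _ 60416 (60416 + 2 ^ 10)))
    (Upto.trans (mid := 62464) ((Upto.of_pow final2_c60 (Nat.le_refl _)) : Upto _ _ 61440 (61440 + 2 ^ 10))
    ((Upto.of_pow final2_c61 (Nat.le_refl _)) : Upto _ _ 62464 (62464 + 2 ^ 10))))))))
    (Upto.trans (mid := 95232) (Upto.trans (mid := 78848) (Upto.trans (mid := 70656) (Upto.trans (mid := 66560) (Upto.trans (mid := 64512) ((Upto.of_pow final2_c62 (Nat.le_refl _)) : Upto _ _ 63488 (63488 + 2 ^ 10))
    (Upto.trans (mid := 65536) ((Upto.of_pow final2_c63 (Nat.le_refl _)) : Upto _ _ 64512 (64512 + 2 ^ 10))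
    ((Upto.of_pow final2_c64 (Nat.le_refl _)) : Upto _ _ 65536 (65536 + 2 ^ 10))))
    (Upto.trans (mid := 68608) (Upto.trans (mid := 67584) ((Upto.of_pow final2_c65 (Nat.le_refl _)) : Upto _ _ 66560 (66560 + 2 ^ 10))
    ((Upto.of_pow final2_c66 (Nat.le_refl _)) : Upto _ _ 67584 (67584 + 2 ^ 10)))
    (Upto.trans (mid := 69632) ((Upto.of_pow final2_c67 (Nat.le_refl _)) : Upto _ _ 68608 (68608 + 2 ^ 10))
    ((Upto.of_pow final2_c68 (Nat.le_refl _)) : Upto _ _ 69632 (69632 + 2 ^ 10)))))
    (Upto.trans (mid := 74752) (Upto.trans (mid := 72704) (Upto.trans (mid := 71680) ((Upto.of_pow final2_c69 (Nat.le_refl _)) : Upto _ _ 70656 (70656 + 2 ^ 10))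
    ((Upto.of_pow final2_c70 (Nat.le_refl _)) : Upto _ _ 71680 (71680 + 2 ^ 10)))
    (Upto.trans (mid := 73728) ((Upto.of_pow final2_c71 (Nat.le_refl _)) : Upto _ _ 72704 (72704 + 2 ^ 10))
    ((Upto.of_pow final2_c72 (Nat.le_refl _)) : Upto _ _ 73728 (73728 + 2 ^ 10))))
    (Upto.trans (mid := 76800) (Upto.trans (mid := 75776) ((Upto.of_pow final2_c73 (Nat.le_refl _)) : Upto _ _ 74752 (74752 + 2 ^ 10))
    ((Upto.of_pow final2_c74 (Nat.le_refl _)) : Upto _ _ 75776 (75776 + 2 ^ 10)))
    (Upto.trans (mid := 77824) ((Upto.of_pow final2_c75 (Nat.le_refl _)) : Upto _ _ 76800 (76800 + 2 ^ 10))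
    ((Upto.of_pow final2_c76 (Nat.le_refl _)) : Upto _ _ 77824 (77824 + 2 ^ 10))))))
    (Upto.trans (mid := 87040) (Upto.trans (mid := 82944) (Upto.trans (mid := 80896) (Upto.trans (mid := 79872) ((Upto.of_pow final2_c77 (Nat.le_refl _)) : Upto _ _ 78848 (78848 + 2 ^ 10))
    ((Upto.of_pow final2_c78 (Nat.le_refl _)) : Upto _ _ 79872 (79872 + 2 ^ 10)))
    (Upto.trans (mid := 81920) ((Upto.of_pow final2_c79 (Nat.le_refl _)) : Upto _ _ 80896 (80896 + 2 ^ 10))
    ((Upto.of_pow final2_c80 (Nat.le_refl _)) : Upto _ _ 81920 (81920 + 2 ^ 10))))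
    (Upto.trans (mid := 84992) (Upto.trans (mid := 83968) ((Upto.of_pow final2_c81 (Nat.le_refl _)) : Upto _ _ 82944 (82944 + 2 ^ 10))
    ((Upto.of_pow final2_c82 (Nat.le_refl _)) : Upto _ _ 83968 (83968 + 2 ^ 10)))
    (Upto.trans (mid := 86016) ((Upto.of_pow final2_c83 (Nat.le_refl _)) : Upto _ _ 84992 (84992 + 2 ^ 10))
    ((Upto.of_pow final2_c84 (Nat.le_refl _)) : Upto _ _ 86016 (86016 + 2 ^ 10)))))
    (Upto.trans (mid := 91136) (Upto.trans (mid := 89088) (Upto.trans (mid := 88064) ((Upto.of_pow final2_c85 (Nat.le_refl _)) : Upto _ _ 87040 (87040 + 2 ^ 10))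
    ((Upto.of_pow final2_c86 (Nat.le_refl _)) : Upto _ _ 88064 (88064 + 2 ^ 10)))
    (Upto.trans (mid := 90112) ((Upto.of_pow final2_c87 (Nat.le_refl _)) : Upto _ _ 89088 (89088 + 2 ^ 10))
    ((Upto.of_pow final2_c88 (Nat.le_refl _)) : Upto _ _ 90112 (90112 + 2 ^ 10))))
    (Upto.trans (mid := 93184) (Upto.trans (mid := 92160) ((Upto.of_pow final2_c89 (Nat.le_refl _)) : Upto _ _ 91136 (91136 + 2 ^ 10))
    ((Upto.of_pow final2_c90 (Nat.le_refl _)) : Upto _ _ 92160 (92160 + 2 ^ 10)))
    (Upto.trans (mid := 94208) ((Upto.of_pow final2_c91 (Nat.le_refl _)) : Upto _ _ 93184 (93184 + 2 ^ 10))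
    ((Upto.of_pow final2_c92 (Nat.le_refl _)) : Upto _ _ 94208 (94208 + 2 ^ 10)))))))
    (Upto.trans (mid := 110592) (Upto.trans (mid := 102400) (Upto.trans (mid := 98304) (Upto.trans (mid := 96256) ((Upto.of_pow final2_c93 (Nat.le_refl _)) : Upto _ _ 95232 (95232 + 2 ^ 10))
    (Upto.trans (mid := 97280) ((Upto.of_pow final2_c94 (Nat.le_refl _)) : Upto _ _ 96256 (96256 + 2 ^ 10))
    ((Upto.of_pow final2_c95 (Nat.le_refl _)) : Upto _ _ 97280 (97280 + 2 ^ 10))))
    (Upto.trans (mid := 100352) (Upto.trans (mid := 99328) ((Upto.of_pow final2_c96 (Nat.le_refl _)) : Upto _ _ 98304 (98304 + 2 ^ 10))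
    ((Upto.of_pow final2_c97 (Nat.le_refl _)) : Upto _ _ 99328 (99328 + 2 ^ 10)))
    (Upto.trans (mid := 101376) ((Upto.of_pow final2_c98 (Nat.le_refl _)) : Upto _ _ 100352 (100352 + 2 ^ 10))
    ((Upto.of_pow final2_c99 (Nat.le_refl _)) : Upto _ _ 101376 (101376 + 2 ^ 10)))))
    (Upto.trans (mid := 106496) (Upto.trans (mid := 104448) (Upto.trans (mid := 103424) ((Upto.of_pow final2_c100 (Nat.le_refl _)) : Upto _ _ 102400 (102400 + 2 ^ 10))
    ((Upto.of_pow final2_c101 (Nat.le_refl _)) : Upto _ _ 103424 (103424 + 2 ^ 10)))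
    (Upto.trans (mid := 105472) ((Upto.of_pow final2_c102 (Nat.le_refl _)) : Upto _ _ 104448 (104448 + 2 ^ 10))
    ((Upto.of_pow final2_c103 (Nat.le_refl _)) : Upto _ _ 105472 (105472 + 2 ^ 10))))
    (Upto.trans (mid := 108544) (Upto.trans (mid := 107520) ((Upto.of_pow final2_c104 (Nat.le_refl _)) : Upto _ _ 106496 (106496 + 2 ^ 10))
    ((Upto.of_pow final2_c105 (Nat.le_refl _)) : Upto _ _ 107520 (107520 + 2 ^ 10)))
    (Upto.trans (mid := 109568) ((Upto.of_pow final2_c106 (Nat.le_refl _)) : Upto _ _ 108544 (108544 + 2 ^ 10))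
    ((Upto.of_pow final2_c107 (Nat.le_refl _)) : Upto _ _ 109568 (109568 + 2 ^ 10))))))
    (Upto.trans (mid := 118784) (Upto.trans (mid := 114688) (Upto.trans (mid := 112640) (Upto.trans (mid := 111616) ((Upto.of_pow final2_c108 (Nat.le_refl _)) : Upto _ _ 110592 (110592 + 2 ^ 10))
    ((Upto.of_pow final2_c109 (Nat.le_refl _)) : Upto _ _ 111616 (111616 + 2 ^ 10)))
    (Upto.trans (mid := 113664) ((Upto.of_pow final2_c110 (Nat.le_refl _)) : Upto _ _ 112640 (112640 + 2 ^ 10))
    ((Upto.of_pow final2_c111 (Nat.le_refl _)) : Upto _ _ 113664 (113664 + 2 ^ 10))))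
    (Upto.trans (mid := 116736) (Upto.trans (mid := 115712) ((Upto.of_pow final2_c112 (Nat.le_refl _)) : Upto _ _ 114688 (114688 + 2 ^ 10))
    ((Upto.of_pow final2_c113 (Nat.le_refl _)) : Upto _ _ 115712 (115712 + 2 ^ 10)))
    (Upto.trans (mid := 117760) ((Upto.of_pow final2_c114 (Nat.le_refl _)) : Upto _ _ 116736 (116736 + 2 ^ 10))
    ((Upto.of_pow final2_c115 (Nat.le_refl _)) : Upto _ _ 117760 (117760 + 2 ^ 10)))))
    (Upto.trans (mid := 122880) (Upto.trans (mid := 120832) (Upto.trans (mid := 119808) ((Upto.of_pow final2_c116 (Nat.le_refl _)) : Upto _ _ 118784 (118784 + 2 ^ 10))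
    ((Upto.of_pow final2_c117 (Nat.le_refl _)) : Upto _ _ 119808 (119808 + 2 ^ 10)))
    (Upto.trans (mid := 121856) ((Upto.of_pow final2_c118 (Nat.le_refl _)) : Upto _ _ 120832 (120832 + 2 ^ 10))
    ((Upto.of_pow final2_c119 (Nat.le_refl _)) : Upto _ _ 121856 (121856 + 2 ^ 10))))
    (Upto.trans (mid := 124928) (Upto.trans (mid := 123904) ((Upto.of_pow final2_c120 (Nat.le_refl _)) : Upto _ _ 122880 (122880 + 2 ^ 10))
    ((Upto.of_pow final2_c121 (Nat.le_refl _)) : Upto _ _ 123904 (123904 + 2 ^ 10)))
    (Upto.trans (mid := 125952) ((Upto.of_pow final2_c122 (Nat.le_refl _)) : Upto _ _ 124928 (124928 + 2 ^ 10))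
    ((Upto.of_pow final2_c123 (Nat.le_refl _)) : Upto _ _ 125952 (125952 + 2 ^ 10)))))))))
    (by decide) (by decide)

theorem final3_c0 : allPow 126000 (finalStep fact node item3 T3 770542 3 126000) 10 0 = true := by decide +kernel
theorem final3_c1 : allPow 126000 (finalStep fact node item3 T3 770542 3 126000) 10 1024 = true := by decide +kernel
theorem final3_c2 : allPow 126000 (finalStep fact node item3 T3 770542 3 126000) 10 2048 = true := by decide +kernel
theorem final3_c3 : allPow 126000 (finalStep fact node item3 T3 770542 3 126000) 10 3072 = true := by decide +kernel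
theorem final3_c4 : allPow 126000 (finalStep fact node item3 T3 770542 3 126000) 10 4096 = true := by decide +kernel
theorem final3_c5 : allPow 126000 (finalStep fact node item3 T3 770542 3 126000) 10 5120 = true := by decide +kernel
theorem final3_c6 : allPow 126000 (finalStep fact node item3 T3 770542 3 126000) 10 6144 = true := by decide +kernel
theorem final3_c7 : allPow 126000 (finalStep fact node item3 T3 770542 3 126000) 10 7168 = true := by decide +kernel
theorem final3_c8 : allPow 126000 (finalStep fact node item3 T3 770542 3 126000) 10 8192 = true := by decide +kernel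
theorem final3_c9 : allPow 126000 (finalStep fact node item3 T3 770542 3 126000) 10 9216 = true := by decide +kernel
theorem final3_c10 : allPow 126000 (finalStep fact node item3 T3 770542 3 126000) 10 10240 = true := by decide +kernel
theorem final3_c11 : allPow 126000 (finalStep fact node item3 T3 770542 3 126000) 10 11264 = true := by decide +kernel
theorem final3_c12 : allPow 126000 (finalStep fact node item3 T3 770542 3 126000) 10 12288 = true := by decide +kernel
theorem final3_c13 : allPow 126000 (finalStep fact node item3 T3 770542 3 126000) 10 13312 = true := by decide +kernel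
theorem final3_c14 : allPow 126000 (finalStep fact node item3 T3 770542 3 126000) 10 14336 = true := by decide +kernel
theorem final3_c15 : allPow 126000 (finalStep fact node item3 T3 770542 3 126000) 10 15360 = true := by decide +kernel
theorem final3_c16 : allPow 126000 (finalStep fact node item3 T3 770542 3 126000) 10 16384 = true := by decide +kernel
theorem final3_c17 : allPow 126000 (finalStep fact node item3 T3 770542 3 126000) 10 17408 = true := by decide +kernel
theorem final3_c18 : allPow 126000 (finalStep fact node item3 T3 770542 3 126000) 10 18432 = true := by decide +kernel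
theorem final3_c19 : allPow 126000 (finalStep fact node item3 T3 770542 3 126000) 10 19456 = true := by decide +kernel
theorem final3_c20 : allPow 126000 (finalStep fact node item3 T3 770542 3 126000) 10 20480 = true := by decide +kernel
theorem final3_c21 : allPow 126000 (finalStep fact node item3 T3 770542 3 126000) 10 21504 = true := by decide +kernel
theorem final3_c22 : allPow 126000 (finalStep fact node item3 T3 770542 3 126000) 10 22528 = true := by decide +kernel
theorem final3_c23 : allPow 126000 (finalStep fact node item3 T3 770542 3 126000) 10 23552 = true := by decide +kernel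
theorem final3_c24 : allPow 126000 (finalStep fact node item3 T3 770542 3 126000) 10 24576 = true := by decide +kernel
theorem final3_c25 : allPow 126000 (finalStep fact node item3 T3 770542 3 126000) 10 25600 = true := by decide +kernel
theorem final3_c26 : allPow 126000 (finalStep fact node item3 T3 770542 3 126000) 10 26624 = true := by decide +kernel
theorem final3_c27 : allPow 126000 (finalStep fact node item3 T3 770542 3 126000) 10 27648 = true := by decide +kernel
theorem final3_c28 : allPow 126000 (finalStep fact node item3 T3 770542 3 126000) 10 28672 = true := by decide +kernel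
theorem final3_c29 : allPow 126000 (finalStep fact node item3 T3 770542 3 126000) 10 29696 = true := by decide +kernel
theorem final3_c30 : allPow 126000 (finalStep fact node item3 T3 770542 3 126000) 10 30720 = true := by decide +kernel
theorem final3_c31 : allPow 126000 (finalStep fact node item3 T3 770542 3 126000) 10 31744 = true := by decide +kernel
theorem final3_c32 : allPow 126000 (finalStep fact node item3 T3 770542 3 126000) 10 32768 = true := by decide +kernel
theorem final3_c33 : allPow 126000 (finalStep fact node item3 T3 770542 3 126000) 10 33792 = true := by decide +kernel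
theorem final3_c34 : allPow 126000 (finalStep fact node item3 T3 770542 3 126000) 10 34816 = true := by decide +kernel
theorem final3_c35 : allPow 126000 (finalStep fact node item3 T3 770542 3 126000) 10 35840 = true := by decide +kernel
theorem final3_c36 : allPow 126000 (finalStep fact node item3 T3 770542 3 126000) 10 36864 = true := by decide +kernel
theorem final3_c37 : allPow 126000 (finalStep fact node item3 T3 770542 3 126000) 10 37888 = true := by decide +kernel
theorem final3_c38 : allPow 126000 (finalStep fact node item3 T3 770542 3 126000) 10 38912 = true := by decide +kernel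
theorem final3_c39 : allPow 126000 (finalStep fact node item3 T3 770542 3 126000) 10 39936 = true := by decide +kernel
theorem final3_c40 : allPow 126000 (finalStep fact node item3 T3 770542 3 126000) 10 40960 = true := by decide +kernel
theorem final3_c41 : allPow 126000 (finalStep fact node item3 T3 770542 3 126000) 10 41984 = true := by decide +kernel
theorem final3_c42 : allPow 126000 (finalStep fact node item3 T3 770542 3 126000) 10 43008 = true := by decide +kernel
theorem final3_c43 : allPow 126000 (finalStep fact node item3 T3 770542 3 126000) 10 44032 = true := by decide +kernel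
theorem final3_c44 : allPow 126000 (finalStep fact node item3 T3 770542 3 126000) 10 45056 = true := by decide +kernel
theorem final3_c45 : allPow 126000 (finalStep fact node item3 T3 770542 3 126000) 10 46080 = true := by decide +kernel
theorem final3_c46 : allPow 126000 (finalStep fact node item3 T3 770542 3 126000) 10 47104 = true := by decide +kernel
theorem final3_c47 : allPow 126000 (finalStep fact node item3 T3 770542 3 126000) 10 48128 = true := by decide +kernel
theorem final3_c48 : allPow 126000 (finalStep fact node item3 T3 770542 3 126000) 10 49152 = true := by decide +kernel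
theorem final3_c49 : allPow 126000 (finalStep fact node item3 T3 770542 3 126000) 10 50176 = true := by decide +kernel
theorem final3_c50 : allPow 126000 (finalStep fact node item3 T3 770542 3 126000) 10 51200 = true := by decide +kernel
theorem final3_c51 : allPow 126000 (finalStep fact node item3 T3 770542 3 126000) 10 52224 = true := by decide +kernel
theorem final3_c52 : allPow 126000 (finalStep fact node item3 T3 770542 3 126000) 10 53248 = true := by decide +kernel
theorem final3_c53 : allPow 126000 (finalStep fact node item3 T3 770542 3 126000) 10 54272 = true := by decide +kernel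
theorem final3_c54 : allPow 126000 (finalStep fact node item3 T3 770542 3 126000) 10 55296 = true := by decide +kernel
theorem final3_c55 : allPow 126000 (finalStep fact node item3 T3 770542 3 126000) 10 56320 = true := by decide +kernel
theorem final3_c56 : allPow 126000 (finalStep fact node item3 T3 770542 3 126000) 10 57344 = true := by decide +kernel
theorem final3_c57 : allPow 126000 (finalStep fact node item3 T3 770542 3 126000) 10 58368 = true := by decide +kernel
theorem final3_c58 : allPow 126000 (finalStep fact node item3 T3 770542 3 126000) 10 59392 = true := by decide +kernel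
theorem final3_c59 : allPow 126000 (finalStep fact node item3 T3 770542 3 126000) 10 60416 = true := by decide +kernel
theorem final3_c60 : allPow 126000 (finalStep fact node item3 T3 770542 3 126000) 10 61440 = true := by decide +kernel
theorem final3_c61 : allPow 126000 (finalStep fact node item3 T3 770542 3 126000) 10 62464 = true := by decide +kernel
theorem final3_c62 : allPow 126000 (finalStep fact node item3 T3 770542 3 126000) 10 63488 = true := by decide +kernel
theorem final3_c63 : allPow 126000 (finalStep fact node item3 T3 770542 3 126000) 10 64512 = true := by decide +kernel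
theorem final3_c64 : allPow 126000 (finalStep fact node item3 T3 770542 3 126000) 10 65536 = true := by decide +kernel
theorem final3_c65 : allPow 126000 (finalStep fact node item3 T3 770542 3 126000) 10 66560 = true := by decide +kernel
theorem final3_c66 : allPow 126000 (finalStep fact node item3 T3 770542 3 126000) 10 67584 = true := by decide +kernel
theorem final3_c67 : allPow 126000 (finalStep fact node item3 T3 770542 3 126000) 10 68608 = true := by decide +kernel
theorem final3_c68 : allPow 126000 (finalStep fact node item3 T3 770542 3 126000) 10 69632 = true := by decide +kernel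
theorem final3_c69 : allPow 126000 (finalStep fact node item3 T3 770542 3 126000) 10 70656 = true := by decide +kernel
theorem final3_c70 : allPow 126000 (finalStep fact node item3 T3 770542 3 126000) 10 71680 = true := by decide +kernel
theorem final3_c71 : allPow 126000 (finalStep fact node item3 T3 770542 3 126000) 10 72704 = true := by decide +kernel
theorem final3_c72 : allPow 126000 (finalStep fact node item3 T3 770542 3 126000) 10 73728 = true := by decide +kernel
theorem final3_c73 : allPow 126000 (finalStep fact node item3 T3 770542 3 126000) 10 74752 = true := by decide +kernel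
theorem final3_c74 : allPow 126000 (finalStep fact node item3 T3 770542 3 126000) 10 75776 = true := by decide +kernel
theorem final3_c75 : allPow 126000 (finalStep fact node item3 T3 770542 3 126000) 10 76800 = true := by decide +kernel
theorem final3_c76 : allPow 126000 (finalStep fact node item3 T3 770542 3 126000) 10 77824 = true := by decide +kernel
theorem final3_c77 : allPow 126000 (finalStep fact node item3 T3 770542 3 126000) 10 78848 = true := by decide +kernel
theorem final3_c78 : allPow 126000 (finalStep fact node item3 T3 770542 3 126000) 10 79872 = true := by decide +kernel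
theorem final3_c79 : allPow 126000 (finalStep fact node item3 T3 770542 3 126000) 10 80896 = true := by decide +kernel
theorem final3_c80 : allPow 126000 (finalStep fact node item3 T3 770542 3 126000) 10 81920 = true := by decide +kernel
theorem final3_c81 : allPow 126000 (finalStep fact node item3 T3 770542 3 126000) 10 82944 = true := by decide +kernel
theorem final3_c82 : allPow 126000 (finalStep fact node item3 T3 770542 3 126000) 10 83968 = true := by decide +kernel
theorem final3_c83 : allPow 126000 (finalStep fact node item3 T3 770542 3 126000) 10 84992 = true := by decide +kernel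
theorem final3_c84 : allPow 126000 (finalStep fact node item3 T3 770542 3 126000) 10 86016 = true := by decide +kernel
theorem final3_c85 : allPow 126000 (finalStep fact node item3 T3 770542 3 126000) 10 87040 = true := by decide +kernel
theorem final3_c86 : allPow 126000 (finalStep fact node item3 T3 770542 3 126000) 10 88064 = true := by decide +kernel
theorem final3_c87 : allPow 126000 (finalStep fact node item3 T3 770542 3 126000) 10 89088 = true := by decide +kernel
theorem final3_c88 : allPow 126000 (finalStep fact node item3 T3 770542 3 126000) 10 90112 = true := by decide +kernel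
theorem final3_c89 : allPow 126000 (finalStep fact node item3 T3 770542 3 126000) 10 91136 = true := by decide +kernel
theorem final3_c90 : allPow 126000 (finalStep fact node item3 T3 770542 3 126000) 10 92160 = true := by decide +kernel
theorem final3_c91 : allPow 126000 (finalStep fact node item3 T3 770542 3 126000) 10 93184 = true := by decide +kernel
theorem final3_c92 : allPow 126000 (finalStep fact node item3 T3 770542 3 126000) 10 94208 = true := by decide +kernel
theorem final3_c93 : allPow 126000 (finalStep fact node item3 T3 770542 3 126000) 10 95232 = true := by decide +kernel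
theorem final3_c94 : allPow 126000 (finalStep fact node item3 T3 770542 3 126000) 10 96256 = true := by decide +kernel
theorem final3_c95 : allPow 126000 (finalStep fact node item3 T3 770542 3 126000) 10 97280 = true := by decide +kernel
theorem final3_c96 : allPow 126000 (finalStep fact node item3 T3 770542 3 126000) 10 98304 = true := by decide +kernel
theorem final3_c97 : allPow 126000 (finalStep fact node item3 T3 770542 3 126000) 10 99328 = true := by decide +kernel
theorem final3_c98 : allPow 126000 (finalStep fact node item3 T3 770542 3 126000) 10 100352 = true := by decide +kernel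
theorem final3_c99 : allPow 126000 (finalStep fact node item3 T3 770542 3 126000) 10 101376 = true := by decide +kernel
theorem final3_c100 : allPow 126000 (finalStep fact node item3 T3 770542 3 126000) 10 102400 = true := by decide +kernel
theorem final3_c101 : allPow 126000 (finalStep fact node item3 T3 770542 3 126000) 10 103424 = true := by decide +kernel
theorem final3_c102 : allPow 126000 (finalStep fact node item3 T3 770542 3 126000) 10 104448 = true := by decide +kernel
theorem final3_c103 : allPow 126000 (finalStep fact node item3 T3 770542 3 126000) 10 105472 = true := by decide +kernel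
theorem final3_c104 : allPow 126000 (finalStep fact node item3 T3 770542 3 126000) 10 106496 = true := by decide +kernel
theorem final3_c105 : allPow 126000 (finalStep fact node item3 T3 770542 3 126000) 10 107520 = true := by decide +kernel
theorem final3_c106 : allPow 126000 (finalStep fact node item3 T3 770542 3 126000) 10 108544 = true := by decide +kernel
theorem final3_c107 : allPow 126000 (finalStep fact node item3 T3 770542 3 126000) 10 109568 = true := by decide +kernel
theorem final3_c108 : allPow 126000 (finalStep fact node item3 T3 770542 3 126000) 10 110592 = true := by decide +kernel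
theorem final3_c109 : allPow 126000 (finalStep fact node item3 T3 770542 3 126000) 10 111616 = true := by decide +kernel
theorem final3_c110 : allPow 126000 (finalStep fact node item3 T3 770542 3 126000) 10 112640 = true := by decide +kernel
theorem final3_c111 : allPow 126000 (finalStep fact node item3 T3 770542 3 126000) 10 113664 = true := by decide +kernel
theorem final3_c112 : allPow 126000 (finalStep fact node item3 T3 770542 3 126000) 10 114688 = true := by decide +kernel
theorem final3_c113 : allPow 126000 (finalStep fact node item3 T3 770542 3 126000) 10 115712 = true := by decide +kernel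
theorem final3_c114 : allPow 126000 (finalStep fact node item3 T3 770542 3 126000) 10 116736 = true := by decide +kernel
theorem final3_c115 : allPow 126000 (finalStep fact node item3 T3 770542 3 126000) 10 117760 = true := by decide +kernel
theorem final3_c116 : allPow 126000 (finalStep fact node item3 T3 770542 3 126000) 10 118784 = true := by decide +kernel
theorem final3_c117 : allPow 126000 (finalStep fact node item3 T3 770542 3 126000) 10 119808 = true := by decide +kernel
theorem final3_c118 : allPow 126000 (finalStep fact node item3 T3 770542 3 126000) 10 120832 = true := by decide +kernel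
theorem final3_c119 : allPow 126000 (finalStep fact node item3 T3 770542 3 126000) 10 121856 = true := by decide +kernel
theorem final3_c120 : allPow 126000 (finalStep fact node item3 T3 770542 3 126000) 10 122880 = true := by decide +kernel
theorem final3_c121 : allPow 126000 (finalStep fact node item3 T3 770542 3 126000) 10 123904 = true := by decide +kernel
theorem final3_c122 : allPow 126000 (finalStep fact node item3 T3 770542 3 126000) 10 124928 = true := by decide +kernel
theorem final3_c123 : allPow 126000 (finalStep fact node item3 T3 770542 3 126000) 10 125952 = true := by decide +kernel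
theorem final3 : allBelow 17 126000 (finalStep fact node item3 T3 770542 3 126000) = true :=
  allBelow_of_upto (hi := 126976)
    (Upto.trans (mid := 63488) (Upto.trans (mid := 31744) (Upto.trans (mid := 15360) (Upto.trans (mid := 7168) (Upto.trans (mid := 3072) (Upto.trans (mid := 1024) ((Upto.of_pow final3_c0 (Nat.le_refl _)) : Upto _ _ 0 (0 + 2 ^ 10))
    (Upto.trans (mid := 2048) ((Upto.of_pow final3_c1 (Nat.le_refl _)) : Upto _ _ 1024 (1024 + 2 ^ 10))
    ((Upto.of_pow final3_c2 (Nat.le_refl _)) : Upto _ _ 2048 (2048 + 2 ^ 10))))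
    (Upto.trans (mid := 5120) (Upto.trans (mid := 4096) ((Upto.of_pow final3_c3 (Nat.le_refl _)) : Upto _ _ 3072 (3072 + 2 ^ 10))
    ((Upto.of_pow final3_c4 (Nat.le_refl _)) : Upto _ _ 4096 (4096 + 2 ^ 10)))
    (Upto.trans (mid := 6144) ((Upto.of_pow final3_c5 (Nat.le_refl _)) : Upto _ _ 5120 (5120 + 2 ^ 10))
    ((Upto.of_pow final3_c6 (Nat.le_refl _)) : Upto _ _ 6144 (6144 + 2 ^ 10)))))
    (Upto.trans (mid := 11264) (Upto.trans (mid := 9216) (Upto.trans (mid := 8192) ((Upto.of_pow final3_c7 (Nat.le_refl _)) : Upto _ _ 7168 (7168 + 2 ^ 10))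
    ((Upto.of_pow final3_c8 (Nat.le_refl _)) : Upto _ _ 8192 (8192 + 2 ^ 10)))
    (Upto.trans (mid := 10240) ((Upto.of_pow final3_c9 (Nat.le_refl _)) : Upto _ _ 9216 (9216 + 2 ^ 10))
    ((Upto.of_pow final3_c10 (Nat.le_refl _)) : Upto _ _ 10240 (10240 + 2 ^ 10))))
    (Upto.trans (mid := 13312) (Upto.trans (mid := 12288) ((Upto.of_pow final3_c11 (Nat.le_refl _)) : Upto _ _ 11264 (11264 + 2 ^ 10))
    ((Upto.of_pow final3_c12 (Nat.le_refl _)) : Upto _ _ 12288 (12288 + 2 ^ 10)))
    (Upto.trans (mid := 14336) ((Upto.of_pow final3_c13 (Nat.le_refl _)) : Upto _ _ 13312 (13312 + 2 ^ 10))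
    ((Upto.of_pow final3_c14 (Nat.le_refl _)) : Upto _ _ 14336 (14336 + 2 ^ 10))))))
    (Upto.trans (mid := 23552) (Upto.trans (mid := 19456) (Upto.trans (mid := 17408) (Upto.trans (mid := 16384) ((Upto.of_pow final3_c15 (Nat.le_refl _)) : Upto _ _ 15360 (15360 + 2 ^ 10))
    ((Upto.of_pow final3_c16 (Nat.le_refl _)) : Upto _ _ 16384 (16384 + 2 ^ 10)))
    (Upto.trans (mid := 18432) ((Upto.of_pow final3_c17 (Nat.le_refl _)) : Upto _ _ 17408 (17408 + 2 ^ 10))
    ((Upto.of_pow final3_c18 (Nat.le_refl _)) : Upto _ _ 18432 (18432 + 2 ^ 10))))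
    (Upto.trans (mid := 21504) (Upto.trans (mid := 20480) ((Upto.of_pow final3_c19 (Nat.le_refl _)) : Upto _ _ 19456 (19456 + 2 ^ 10))
    ((Upto.of_pow final3_c20 (Nat.le_refl _)) : Upto _ _ 20480 (20480 + 2 ^ 10)))
    (Upto.trans (mid := 22528) ((Upto.of_pow final3_c21 (Nat.le_refl _)) : Upto _ _ 21504 (21504 + 2 ^ 10))
    ((Upto.of_pow final3_c22 (Nat.le_refl _)) : Upto _ _ 22528 (22528 + 2 ^ 10)))))
    (Upto.trans (mid := 27648) (Upto.trans (mid := 25600) (Upto.trans (mid := 24576) ((Upto.of_pow final3_c23 (Nat.le_refl _)) : Upto _ _ 23552 (23552 + 2 ^ 10))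
    ((Upto.of_pow final3_c24 (Nat.le_refl _)) : Upto _ _ 24576 (24576 + 2 ^ 10)))
    (Upto.trans (mid := 26624) ((Upto.of_pow final3_c25 (Nat.le_refl _)) : Upto _ _ 25600 (25600 + 2 ^ 10))
    ((Upto.of_pow final3_c26 (Nat.le_refl _)) : Upto _ _ 26624 (26624 + 2 ^ 10))))
    (Upto.trans (mid := 29696) (Upto.trans (mid := 28672) ((Upto.of_pow final3_c27 (Nat.le_refl _)) : Upto _ _ 27648 (27648 + 2 ^ 10))
    ((Upto.of_pow final3_c28 (Nat.le_refl _)) : Upto _ _ 28672 (28672 + 2 ^ 10)))
    (Upto.trans (mid := 30720) ((Upto.of_pow final3_c29 (Nat.le_refl _)) : Upto _ _ 29696 (29696 + 2 ^ 10))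
    ((Upto.of_pow final3_c30 (Nat.le_refl _)) : Upto _ _ 30720 (30720 + 2 ^ 10)))))))
    (Upto.trans (mid := 47104) (Upto.trans (mid := 38912) (Upto.trans (mid := 34816) (Upto.trans (mid := 32768) ((Upto.of_pow final3_c31 (Nat.le_refl _)) : Upto _ _ 31744 (31744 + 2 ^ 10))
    (Upto.trans (mid := 33792) ((Upto.of_pow final3_c32 (Nat.le_refl _)) : Upto _ _ 32768 (32768 + 2 ^ 10))
    ((Upto.of_pow final3_c33 (Nat.le_refl _)) : Upto _ _ 33792 (33792 + 2 ^ 10))))
    (Upto.trans (mid := 36864) (Upto.trans (mid := 35840) ((Upto.of_pow final3_c34 (Nat.le_refl _)) : Upto _ _ 34816 (34816 + 2 ^ 10))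
    ((Upto.of_pow final3_c35 (Nat.le_refl _)) : Upto _ _ 35840 (35840 + 2 ^ 10)))
    (Upto.trans (mid := 37888) ((Upto.of_pow final3_c36 (Nat.le_refl _)) : Upto _ _ 36864 (36864 + 2 ^ 10))
    ((Upto.of_pow final3_c37 (Nat.le_refl _)) : Upto _ _ 37888 (37888 + 2 ^ 10)))))
    (Upto.trans (mid := 43008) (Upto.trans (mid := 40960) (Upto.trans (mid := 39936) ((Upto.of_pow final3_c38 (Nat.le_refl _)) : Upto _ _ 38912 (38912 + 2 ^ 10))
    ((Upto.of_pow final3_c39 (Nat.le_refl _)) : Upto _ _ 39936 (39936 + 2 ^ 10)))
    (Upto.trans (mid := 41984) ((Upto.of_pow final3_c40 (Nat.le_refl _)) : Upto _ _ 40960 (40960 + 2 ^ 10))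
    ((Upto.of_pow final3_c41 (Nat.le_refl _)) : Upto _ _ 41984 (41984 + 2 ^ 10))))
    (Upto.trans (mid := 45056) (Upto.trans (mid := 44032) ((Upto.of_pow final3_c42 (Nat.le_refl _)) : Upto _ _ 43008 (43008 + 2 ^ 10))
    ((Upto.of_pow final3_c43 (Nat.le_refl _)) : Upto _ _ 44032 (44032 + 2 ^ 10)))
    (Upto.trans (mid := 46080) ((Upto.of_pow final3_c44 (Nat.le_refl _)) : Upto _ _ 45056 (45056 + 2 ^ 10))
    ((Upto.of_pow final3_c45 (Nat.le_refl _)) : Upto _ _ 46080 (46080 + 2 ^ 10))))))
    (Upto.trans (mid := 55296) (Upto.trans (mid := 51200) (Upto.trans (mid := 49152) (Upto.trans (mid := 48128) ((Upto.of_pow final3_c46 (Nat.le_refl _)) : Upto _ _ 47104 (47104 + 2 ^ 10))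
    ((Upto.of_pow final3_c47 (Nat.le_refl _)) : Upto _ _ 48128 (48128 + 2 ^ 10)))
    (Upto.trans (mid := 50176) ((Upto.of_pow final3_c48 (Nat.le_refl _)) : Upto _ _ 49152 (49152 + 2 ^ 10))
    ((Upto.of_pow final3_c49 (Nat.le_refl _)) : Upto _ _ 50176 (50176 + 2 ^ 10))))
    (Upto.trans (mid := 53248) (Upto.trans (mid := 52224) ((Upto.of_pow final3_c50 (Nat.le_refl _)) : Upto _ _ 51200 (51200 + 2 ^ 10))
    ((Upto.of_pow final3_c51 (Nat.le_refl _)) : Upto _ _ 52224 (52224 + 2 ^ 10)))
    (Upto.trans (mid := 54272) ((Upto.of_pow final3_c52 (Nat.le_refl _)) : Upto _ _ 53248 (53248 + 2 ^ 10))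
    ((Upto.of_pow final3_c53 (Nat.le_refl _)) : Upto _ _ 54272 (54272 + 2 ^ 10)))))
    (Upto.trans (mid := 59392) (Upto.trans (mid := 57344) (Upto.trans (mid := 56320) ((Upto.of_pow final3_c54 (Nat.le_refl _)) : Upto _ _ 55296 (55296 + 2 ^ 10))
    ((Upto.of_pow final3_c55 (Nat.le_refl _)) : Upto _ _ 56320 (56320 + 2 ^ 10)))
    (Upto.trans (mid := 58368) ((Upto.of_pow final3_c56 (Nat.le_refl _)) : Upto _ _ 57344 (57344 + 2 ^ 10))
    ((Upto.of_pow final3_c57 (Nat.le_refl _)) : Upto _ _ 58368 (58368 + 2 ^ 10))))
    (Upto.trans (mid := 61440) (Upto.trans (mid := 60416) ((Upto.of_pow final3_c58 (Nat.le_refl _)) : Upto _ _ 59392 (59392 + 2 ^ 10))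
    ((Upto.of_pow final3_c59 (Nat.le_refl _)) : Upto _ _ 60416 (60416 + 2 ^ 10)))
    (Upto.trans (mid := 62464) ((Upto.of_pow final3_c60 (Nat.le_refl _)) : Upto _ _ 61440 (61440 + 2 ^ 10))
    ((Upto.of_pow final3_c61 (Nat.le_refl _)) : Upto _ _ 62464 (62464 + 2 ^ 10))))))))
    (Upto.trans (mid := 95232) (Upto.trans (mid := 78848) (Upto.trans (mid := 70656) (Upto.trans (mid := 66560) (Upto.trans (mid := 64512) ((Upto.of_pow final3_c62 (Nat.le_refl _)) : Upto _ _ 63488 (63488 + 2 ^ 10))
    (Upto.trans (mid := 65536) ((Upto.of_pow final3_c63 (Nat.le_refl _)) : Upto _ _ 64512 (64512 + 2 ^ 10))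
    ((Upto.of_pow final3_c64 (Nat.le_refl _)) : Upto _ _ 65536 (65536 + 2 ^ 10))))
    (Upto.trans (mid := 68608) (Upto.trans (mid := 67584) ((Upto.of_pow final3_c65 (Nat.le_refl _)) : Upto _ _ 66560 (66560 + 2 ^ 10))
    ((Upto.of_pow final3_c66 (Nat.le_refl _)) : Upto _ _ 67584 (67584 + 2 ^ 10)))
    (Upto.trans (mid := 69632) ((Upto.of_pow final3_c67 (Nat.le_refl _)) : Upto _ _ 68608 (68608 + 2 ^ 10))
    ((Upto.of_pow final3_c68 (Nat.le_refl _)) : Upto _ _ 69632 (69632 + 2 ^ 10)))))
    (Upto.trans (mid := 74752) (Upto.trans (mid := 72704) (Upto.trans (mid := 71680) ((Upto.of_pow final3_c69 (Nat.le_refl _)) : Upto _ _ 70656 (70656 + 2 ^ 10))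
    ((Upto.of_pow final3_c70 (Nat.le_refl _)) : Upto _ _ 71680 (71680 + 2 ^ 10)))
    (Upto.trans (mid := 73728) ((Upto.of_pow final3_c71 (Nat.le_refl _)) : Upto _ _ 72704 (72704 + 2 ^ 10))
    ((Upto.of_pow final3_c72 (Nat.le_refl _)) : Upto _ _ 73728 (73728 + 2 ^ 10))))
    (Upto.trans (mid := 76800) (Upto.trans (mid := 75776) ((Upto.of_pow final3_c73 (Nat.le_refl _)) : Upto _ _ 74752 (74752 + 2 ^ 10))
    ((Upto.of_pow final3_c74 (Nat.le_refl _)) : Upto _ _ 75776 (75776 + 2 ^ 10)))
    (Upto.trans (mid := 77824) ((Upto.of_pow final3_c75 (Nat.le_refl _)) : Upto _ _ 76800 (76800 + 2 ^ 10))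
    ((Upto.of_pow final3_c76 (Nat.le_refl _)) : Upto _ _ 77824 (77824 + 2 ^ 10))))))
    (Upto.trans (mid := 87040) (Upto.trans (mid := 82944) (Upto.trans (mid := 80896) (Upto.trans (mid := 79872) ((Upto.of_pow final3_c77 (Nat.le_refl _)) : Upto _ _ 78848 (78848 + 2 ^ 10))
    ((Upto.of_pow final3_c78 (Nat.le_refl _)) : Upto _ _ 79872 (79872 + 2 ^ 10)))
    (Upto.trans (mid := 81920) ((Upto.of_pow final3_c79 (Nat.le_refl _)) : Upto _ _ 80896 (80896 + 2 ^ 10))
    ((Upto.of_pow final3_c80 (Nat.le_refl _)) : Upto _ _ 81920 (81920 + 2 ^ 10))))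
    (Upto.trans (mid := 84992) (Upto.trans (mid := 83968) ((Upto.of_pow final3_c81 (Nat.le_refl _)) : Upto _ _ 82944 (82944 + 2 ^ 10))
    ((Upto.of_pow final3_c82 (Nat.le_refl _)) : Upto _ _ 83968 (83968 + 2 ^ 10)))
    (Upto.trans (mid := 86016) ((Upto.of_pow final3_c83 (Nat.le_refl _)) : Upto _ _ 84992 (84992 + 2 ^ 10))
    ((Upto.of_pow final3_c84 (Nat.le_refl _)) : Upto _ _ 86016 (86016 + 2 ^ 10)))))
    (Upto.trans (mid := 91136) (Upto.trans (mid := 89088) (Upto.trans (mid := 88064) ((Upto.of_pow final3_c85 (Nat.le_refl _)) : Upto _ _ 87040 (87040 + 2 ^ 10))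
    ((Upto.of_pow final3_c86 (Nat.le_refl _)) : Upto _ _ 88064 (88064 + 2 ^ 10)))
    (Upto.trans (mid := 90112) ((Upto.of_pow final3_c87 (Nat.le_refl _)) : Upto _ _ 89088 (89088 + 2 ^ 10))
    ((Upto.of_pow final3_c88 (Nat.le_refl _)) : Upto _ _ 90112 (90112 + 2 ^ 10))))
    (Upto.trans (mid := 93184) (Upto.trans (mid := 92160) ((Upto.of_pow final3_c89 (Nat.le_refl _)) : Upto _ _ 91136 (91136 + 2 ^ 10))
    ((Upto.of_pow final3_c90 (Nat.le_refl _)) : Upto _ _ 92160 (92160 + 2 ^ 10)))
    (Upto.trans (mid := 94208) ((Upto.of_pow final3_c91 (Nat.le_refl _)) : Upto _ _ 93184 (93184 + 2 ^ 10))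
    ((Upto.of_pow final3_c92 (Nat.le_refl _)) : Upto _ _ 94208 (94208 + 2 ^ 10)))))))
    (Upto.trans (mid := 110592) (Upto.trans (mid := 102400) (Upto.trans (mid := 98304) (Upto.trans (mid := 96256) ((Upto.of_pow final3_c93 (Nat.le_refl _)) : Upto _ _ 95232 (95232 + 2 ^ 10))
    (Upto.trans (mid := 97280) ((Upto.of_pow final3_c94 (Nat.le_refl _)) : Upto _ _ 96256 (96256 + 2 ^ 10))
    ((Upto.of_pow final3_c95 (Nat.le_refl _)) : Upto _ _ 97280 (97280 + 2 ^ 10))))
    (Upto.trans (mid := 100352) (Upto.trans (mid := 99328) ((Upto.of_pow final3_c96 (Nat.le_refl _)) : Upto _ _ 98304 (98304 + 2 ^ 10))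
    ((Upto.of_pow final3_c97 (Nat.le_refl _)) : Upto _ _ 99328 (99328 + 2 ^ 10)))
    (Upto.trans (mid := 101376) ((Upto.of_pow final3_c98 (Nat.le_refl _)) : Upto _ _ 100352 (100352 + 2 ^ 10))
    ((Upto.of_pow final3_c99 (Nat.le_refl _)) : Upto _ _ 101376 (101376 + 2 ^ 10)))))
    (Upto.trans (mid := 106496) (Upto.trans (mid := 104448) (Upto.trans (mid := 103424) ((Upto.of_pow final3_c100 (Nat.le_refl _)) : Upto _ _ 102400 (102400 + 2 ^ 10))
    ((Upto.of_pow final3_c101 (Nat.le_refl _)) : Upto _ _ 103424 (103424 + 2 ^ 10)))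
    (Upto.trans (mid := 105472) ((Upto.of_pow final3_c102 (Nat.le_refl _)) : Upto _ _ 104448 (104448 + 2 ^ 10))
    ((Upto.of_pow final3_c103 (Nat.le_refl _)) : Upto _ _ 105472 (105472 + 2 ^ 10))))
    (Upto.trans (mid := 108544) (Upto.trans (mid := 107520) ((Upto.of_pow final3_c104 (Nat.le_refl _)) : Upto _ _ 106496 (106496 + 2 ^ 10))
    ((Upto.of_pow final3_c105 (Nat.le_refl _)) : Upto _ _ 107520 (107520 + 2 ^ 10)))
    (Upto.trans (mid := 109568) ((Upto.of_pow final3_c106 (Nat.le_refl _)) : Upto _ _ 108544 (108544 + 2 ^ 10))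
    ((Upto.of_pow final3_c107 (Nat.le_refl _)) : Upto _ _ 109568 (109568 + 2 ^ 10))))))
    (Upto.trans (mid := 118784) (Upto.trans (mid := 114688) (Upto.trans (mid := 112640) (Upto.trans (mid := 111616) ((Upto.of_pow final3_c108 (Nat.le_refl _)) : Upto _ _ 110592 (110592 + 2 ^ 10))
    ((Upto.of_pow final3_c109 (Nat.le_refl _)) : Upto _ _ 111616 (111616 + 2 ^ 10)))
    (Upto.trans (mid := 113664) ((Upto.of_pow final3_c110 (Nat.le_refl _)) : Upto _ _ 112640 (112640 + 2 ^ 10))
    ((Upto.of_pow final3_c111 (Nat.le_refl _)) : Upto _ _ 113664 (113664 + 2 ^ 10))))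
    (Upto.trans (mid := 116736) (Upto.trans (mid := 115712) ((Upto.of_pow final3_c112 (Nat.le_refl _)) : Upto _ _ 114688 (114688 + 2 ^ 10))
    ((Upto.of_pow final3_c113 (Nat.le_refl _)) : Upto _ _ 115712 (115712 + 2 ^ 10)))
    (Upto.trans (mid := 117760) ((Upto.of_pow final3_c114 (Nat.le_refl _)) : Upto _ _ 116736 (116736 + 2 ^ 10))
    ((Upto.of_pow final3_c115 (Nat.le_refl _)) : Upto _ _ 117760 (117760 + 2 ^ 10)))))
    (Upto.trans (mid := 122880) (Upto.trans (mid := 120832) (Upto.trans (mid := 119808) ((Upto.of_pow final3_c116 (Nat.le_refl _)) : Upto _ _ 118784 (118784 + 2 ^ 10))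
    ((Upto.of_pow final3_c117 (Nat.le_refl _)) : Upto _ _ 119808 (119808 + 2 ^ 10)))
    (Upto.trans (mid := 121856) ((Upto.of_pow final3_c118 (Nat.le_refl _)) : Upto _ _ 120832 (120832 + 2 ^ 10))
    ((Upto.of_pow final3_c119 (Nat.le_refl _)) : Upto _ _ 121856 (121856 + 2 ^ 10))))
    (Upto.trans (mid := 124928) (Upto.trans (mid := 123904) ((Upto.of_pow final3_c120 (Nat.le_refl _)) : Upto _ _ 122880 (122880 + 2 ^ 10))
    ((Upto.of_pow final3_c121 (Nat.le_refl _)) : Upto _ _ 123904 (123904 + 2 ^ 10)))
    (Upto.trans (mid := 125952) ((Upto.of_pow final3_c122 (Nat.le_refl _)) : Upto _ _ 124928 (124928 + 2 ^ 10))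
    ((Upto.of_pow final3_c123 (Nat.le_refl _)) : Upto _ _ 125952 (125952 + 2 ^ 10)))))))))
    (by decide) (by decide)

theorem final4_c0 : allPow 126000 (finalStep fact node item4 T4 770542 4 126000) 10 0 = true := by decide +kernel
theorem final4_c1 : allPow 126000 (finalStep fact node item4 T4 770542 4 126000) 10 1024 = true := by decide +kernel
theorem final4_c2 : allPow 126000 (finalStep fact node item4 T4 770542 4 126000) 10 2048 = true := by decide +kernel
theorem final4_c3 : allPow 126000 (finalStep fact node item4 T4 770542 4 126000) 10 3072 = true := by decide +kernel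
theorem final4_c4 : allPow 126000 (finalStep fact node item4 T4 770542 4 126000) 10 4096 = true := by decide +kernel
theorem final4_c5 : allPow 126000 (finalStep fact node item4 T4 770542 4 126000) 10 5120 = true := by decide +kernel
theorem final4_c6 : allPow 126000 (finalStep fact node item4 T4 770542 4 126000) 10 6144 = true := by decide +kernel
theorem final4_c7 : allPow 126000 (finalStep fact node item4 T4 770542 4 126000) 10 7168 = true := by decide +kernel
theorem final4_c8 : allPow 126000 (finalStep fact node item4 T4 770542 4 126000) 10 8192 = true := by decide +kernel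
theorem final4_c9 : allPow 126000 (finalStep fact node item4 T4 770542 4 126000) 10 9216 = true := by decide +kernel
theorem final4_c10 : allPow 126000 (finalStep fact node item4 T4 770542 4 126000) 10 10240 = true := by decide +kernel
theorem final4_c11 : allPow 126000 (finalStep fact node item4 T4 770542 4 126000) 10 11264 = true := by decide +kernel
theorem final4_c12 : allPow 126000 (finalStep fact node item4 T4 770542 4 126000) 10 12288 = true := by decide +kernel
theorem final4_c13 : allPow 126000 (finalStep fact node item4 T4 770542 4 126000) 10 13312 = true := by decide +kernel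
theorem final4_c14 : allPow 126000 (finalStep fact node item4 T4 770542 4 126000) 10 14336 = true := by decide +kernel
theorem final4_c15 : allPow 126000 (finalStep fact node item4 T4 770542 4 126000) 10 15360 = true := by decide +kernel
theorem final4_c16 : allPow 126000 (finalStep fact node item4 T4 770542 4 126000) 10 16384 = true := by decide +kernel
theorem final4_c17 : allPow 126000 (finalStep fact node item4 T4 770542 4 126000) 10 17408 = true := by decide +kernel
theorem final4_c18 : allPow 126000 (finalStep fact node item4 T4 770542 4 126000) 10 18432 = true := by decide +kernel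
theorem final4_c19 : allPow 126000 (finalStep fact node item4 T4 770542 4 126000) 10 19456 = true := by decide +kernel
theorem final4_c20 : allPow 126000 (finalStep fact node item4 T4 770542 4 126000) 10 20480 = true := by decide +kernel
theorem final4_c21 : allPow 126000 (finalStep fact node item4 T4 770542 4 126000) 10 21504 = true := by decide +kernel
theorem final4_c22 : allPow 126000 (finalStep fact node item4 T4 770542 4 126000) 10 22528 = true := by decide +kernel
theorem final4_c23 : allPow 126000 (finalStep fact node item4 T4 770542 4 126000) 10 23552 = true := by decide +kernel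
theorem final4_c24 : allPow 126000 (finalStep fact node item4 T4 770542 4 126000) 10 24576 = true := by decide +kernel
theorem final4_c25 : allPow 126000 (finalStep fact node item4 T4 770542 4 126000) 10 25600 = true := by decide +kernel
theorem final4_c26 : allPow 126000 (finalStep fact node item4 T4 770542 4 126000) 10 26624 = true := by decide +kernel
theorem final4_c27 : allPow 126000 (finalStep fact node item4 T4 770542 4 126000) 10 27648 = true := by decide +kernel
theorem final4_c28 : allPow 126000 (finalStep fact node item4 T4 770542 4 126000) 10 28672 = true := by decide +kernel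
theorem final4_c29 : allPow 126000 (finalStep fact node item4 T4 770542 4 126000) 10 29696 = true := by decide +kernel
theorem final4_c30 : allPow 126000 (finalStep fact node item4 T4 770542 4 126000) 10 30720 = true := by decide +kernel
theorem final4_c31 : allPow 126000 (finalStep fact node item4 T4 770542 4 126000) 10 31744 = true := by decide +kernel
theorem final4_c32 : allPow 126000 (finalStep fact node item4 T4 770542 4 126000) 10 32768 = true := by decide +kernel
theorem final4_c33 : allPow 126000 (finalStep fact node item4 T4 770542 4 126000) 10 33792 = true := by decide +kernel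
theorem final4_c34 : allPow 126000 (finalStep fact node item4 T4 770542 4 126000) 10 34816 = true := by decide +kernel
theorem final4_c35 : allPow 126000 (finalStep fact node item4 T4 770542 4 126000) 10 35840 = true := by decide +kernel
theorem final4_c36 : allPow 126000 (finalStep fact node item4 T4 770542 4 126000) 10 36864 = true := by decide +kernel
theorem final4_c37 : allPow 126000 (finalStep fact node item4 T4 770542 4 126000) 10 37888 = true := by decide +kernel
theorem final4_c38 : allPow 126000 (finalStep fact node item4 T4 770542 4 126000) 10 38912 = true := by decide +kernel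
theorem final4_c39 : allPow 126000 (finalStep fact node item4 T4 770542 4 126000) 10 39936 = true := by decide +kernel
theorem final4_c40 : allPow 126000 (finalStep fact node item4 T4 770542 4 126000) 10 40960 = true := by decide +kernel
theorem final4_c41 : allPow 126000 (finalStep fact node item4 T4 770542 4 126000) 10 41984 = true := by decide +kernel
theorem final4_c42 : allPow 126000 (finalStep fact node item4 T4 770542 4 126000) 10 43008 = true := by decide +kernel
theorem final4_c43 : allPow 126000 (finalStep fact node item4 T4 770542 4 126000) 10 44032 = true := by decide +kernel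
theorem final4_c44 : allPow 126000 (finalStep fact node item4 T4 770542 4 126000) 10 45056 = true := by decide +kernel
theorem final4_c45 : allPow 126000 (finalStep fact node item4 T4 770542 4 126000) 10 46080 = true := by decide +kernel
theorem final4_c46 : allPow 126000 (finalStep fact node item4 T4 770542 4 126000) 10 47104 = true := by decide +kernel
theorem final4_c47 : allPow 126000 (finalStep fact node item4 T4 770542 4 126000) 10 48128 = true := by decide +kernel
theorem final4_c48 : allPow 126000 (finalStep fact node item4 T4 770542 4 126000) 10 49152 = true := by decide +kernel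
theorem final4_c49 : allPow 126000 (finalStep fact node item4 T4 770542 4 126000) 10 50176 = true := by decide +kernel
theorem final4_c50 : allPow 126000 (finalStep fact node item4 T4 770542 4 126000) 10 51200 = true := by decide +kernel
theorem final4_c51 : allPow 126000 (finalStep fact node item4 T4 770542 4 126000) 10 52224 = true := by decide +kernel
theorem final4_c52 : allPow 126000 (finalStep fact node item4 T4 770542 4 126000) 10 53248 = true := by decide +kernel
theorem final4_c53 : allPow 126000 (finalStep fact node item4 T4 770542 4 126000) 10 54272 = true := by decide +kernel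
theorem final4_c54 : allPow 126000 (finalStep fact node item4 T4 770542 4 126000) 10 55296 = true := by decide +kernel
theorem final4_c55 : allPow 126000 (finalStep fact node item4 T4 770542 4 126000) 10 56320 = true := by decide +kernel
theorem final4_c56 : allPow 126000 (finalStep fact node item4 T4 770542 4 126000) 10 57344 = true := by decide +kernel
theorem final4_c57 : allPow 126000 (finalStep fact node item4 T4 770542 4 126000) 10 58368 = true := by decide +kernel
theorem final4_c58 : allPow 126000 (finalStep fact node item4 T4 770542 4 126000) 10 59392 = true := by decide +kernel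
theorem final4_c59 : allPow 126000 (finalStep fact node item4 T4 770542 4 126000) 10 60416 = true := by decide +kernel
theorem final4_c60 : allPow 126000 (finalStep fact node item4 T4 770542 4 126000) 10 61440 = true := by decide +kernel
theorem final4_c61 : allPow 126000 (finalStep fact node item4 T4 770542 4 126000) 10 62464 = true := by decide +kernel
theorem final4_c62 : allPow 126000 (finalStep fact node item4 T4 770542 4 126000) 10 63488 = true := by decide +kernel
theorem final4_c63 : allPow 126000 (finalStep fact node item4 T4 770542 4 126000) 10 64512 = true := by decide +kernel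
theorem final4_c64 : allPow 126000 (finalStep fact node item4 T4 770542 4 126000) 10 65536 = true := by decide +kernel
theorem final4_c65 : allPow 126000 (finalStep fact node item4 T4 770542 4 126000) 10 66560 = true := by decide +kernel
theorem final4_c66 : allPow 126000 (finalStep fact node item4 T4 770542 4 126000) 10 67584 = true := by decide +kernel
theorem final4_c67 : allPow 126000 (finalStep fact node item4 T4 770542 4 126000) 10 68608 = true := by decide +kernel
theorem final4_c68 : allPow 126000 (finalStep fact node item4 T4 770542 4 126000) 10 69632 = true := by decide +kernel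
theorem final4_c69 : allPow 126000 (finalStep fact node item4 T4 770542 4 126000) 10 70656 = true := by decide +kernel
theorem final4_c70 : allPow 126000 (finalStep fact node item4 T4 770542 4 126000) 10 71680 = true := by decide +kernel
theorem final4_c71 : allPow 126000 (finalStep fact node item4 T4 770542 4 126000) 10 72704 = true := by decide +kernel
theorem final4_c72 : allPow 126000 (finalStep fact node item4 T4 770542 4 126000) 10 73728 = true := by decide +kernel
theorem final4_c73 : allPow 126000 (finalStep fact node item4 T4 770542 4 126000) 10 74752 = true := by decide +kernel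
theorem final4_c74 : allPow 126000 (finalStep fact node item4 T4 770542 4 126000) 10 75776 = true := by decide +kernel
theorem final4_c75 : allPow 126000 (finalStep fact node item4 T4 770542 4 126000) 10 76800 = true := by decide +kernel
theorem final4_c76 : allPow 126000 (finalStep fact node item4 T4 770542 4 126000) 10 77824 = true := by decide +kernel
theorem final4_c77 : allPow 126000 (finalStep fact node item4 T4 770542 4 126000) 10 78848 = true := by decide +kernel
theorem final4_c78 : allPow 126000 (finalStep fact node item4 T4 770542 4 126000) 10 79872 = true := by decide +kernel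
theorem final4_c79 : allPow 126000 (finalStep fact node item4 T4 770542 4 126000) 10 80896 = true := by decide +kernel
theorem final4_c80 : allPow 126000 (finalStep fact node item4 T4 770542 4 126000) 10 81920 = true := by decide +kernel
theorem final4_c81 : allPow 126000 (finalStep fact node item4 T4 770542 4 126000) 10 82944 = true := by decide +kernel
theorem final4_c82 : allPow 126000 (finalStep fact node item4 T4 770542 4 126000) 10 83968 = true := by decide +kernel
theorem final4_c83 : allPow 126000 (finalStep fact node item4 T4 770542 4 126000) 10 84992 = true := by decide +kernel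
theorem final4_c84 : allPow 126000 (finalStep fact node item4 T4 770542 4 126000) 10 86016 = true := by decide +kernel
theorem final4_c85 : allPow 126000 (finalStep fact node item4 T4 770542 4 126000) 10 87040 = true := by decide +kernel
theorem final4_c86 : allPow 126000 (finalStep fact node item4 T4 770542 4 126000) 10 88064 = true := by decide +kernel
theorem final4_c87 : allPow 126000 (finalStep fact node item4 T4 770542 4 126000) 10 89088 = true := by decide +kernel
theorem final4_c88 : allPow 126000 (finalStep fact node item4 T4 770542 4 126000) 10 90112 = true := by decide +kernel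
theorem final4_c89 : allPow 126000 (finalStep fact node item4 T4 770542 4 126000) 10 91136 = true := by decide +kernel
theorem final4_c90 : allPow 126000 (finalStep fact node item4 T4 770542 4 126000) 10 92160 = true := by decide +kernel
theorem final4_c91 : allPow 126000 (finalStep fact node item4 T4 770542 4 126000) 10 93184 = true := by decide +kernel
theorem final4_c92 : allPow 126000 (finalStep fact node item4 T4 770542 4 126000) 10 94208 = true := by decide +kernel
theorem final4_c93 : allPow 126000 (finalStep fact node item4 T4 770542 4 126000) 10 95232 = true := by decide +kernel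
theorem final4_c94 : allPow 126000 (finalStep fact node item4 T4 770542 4 126000) 10 96256 = true := by decide +kernel
theorem final4_c95 : allPow 126000 (finalStep fact node item4 T4 770542 4 126000) 10 97280 = true := by decide +kernel
theorem final4_c96 : allPow 126000 (finalStep fact node item4 T4 770542 4 126000) 10 98304 = true := by decide +kernel
theorem final4_c97 : allPow 126000 (finalStep fact node item4 T4 770542 4 126000) 10 99328 = true := by decide +kernel
theorem final4_c98 : allPow 126000 (finalStep fact node item4 T4 770542 4 126000) 10 100352 = true := by decide +kernel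
theorem final4_c99 : allPow 126000 (finalStep fact node item4 T4 770542 4 126000) 10 101376 = true := by decide +kernel
theorem final4_c100 : allPow 126000 (finalStep fact node item4 T4 770542 4 126000) 10 102400 = true := by decide +kernel
theorem final4_c101 : allPow 126000 (finalStep fact node item4 T4 770542 4 126000) 10 103424 = true := by decide +kernel
theorem final4_c102 : allPow 126000 (finalStep fact node item4 T4 770542 4 126000) 10 104448 = true := by decide +kernel
theorem final4_c103 : allPow 126000 (finalStep fact node item4 T4 770542 4 126000) 10 105472 = true := by decide +kernel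
theorem final4_c104 : allPow 126000 (finalStep fact node item4 T4 770542 4 126000) 10 106496 = true := by decide +kernel
theorem final4_c105 : allPow 126000 (finalStep fact node item4 T4 770542 4 126000) 10 107520 = true := by decide +kernel
theorem final4_c106 : allPow 126000 (finalStep fact node item4 T4 770542 4 126000) 10 108544 = true := by decide +kernel
theorem final4_c107 : allPow 126000 (finalStep fact node item4 T4 770542 4 126000) 10 109568 = true := by decide +kernel
theorem final4_c108 : allPow 126000 (finalStep fact node item4 T4 770542 4 126000) 10 110592 = true := by decide +kernel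
theorem final4_c109 : allPow 126000 (finalStep fact node item4 T4 770542 4 126000) 10 111616 = true := by decide +kernel
theorem final4_c110 : allPow 126000 (finalStep fact node item4 T4 770542 4 126000) 10 112640 = true := by decide +kernel
theorem final4_c111 : allPow 126000 (finalStep fact node item4 T4 770542 4 126000) 10 113664 = true := by decide +kernel
theorem final4_c112 : allPow 126000 (finalStep fact node item4 T4 770542 4 126000) 10 114688 = true := by decide +kernel
theorem final4_c113 : allPow 126000 (finalStep fact node item4 T4 770542 4 126000) 10 115712 = true := by decide +kernel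
theorem final4_c114 : allPow 126000 (finalStep fact node item4 T4 770542 4 126000) 10 116736 = true := by decide +kernel
theorem final4_c115 : allPow 126000 (finalStep fact node item4 T4 770542 4 126000) 10 117760 = true := by decide +kernel
theorem final4_c116 : allPow 126000 (finalStep fact node item4 T4 770542 4 126000) 10 118784 = true := by decide +kernel
theorem final4_c117 : allPow 126000 (finalStep fact node item4 T4 770542 4 126000) 10 119808 = true := by decide +kernel
theorem final4_c118 : allPow 126000 (finalStep fact node item4 T4 770542 4 126000) 10 120832 = true := by decide +kernel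
theorem final4_c119 : allPow 126000 (finalStep fact node item4 T4 770542 4 126000) 10 121856 = true := by decide +kernel
theorem final4_c120 : allPow 126000 (finalStep fact node item4 T4 770542 4 126000) 10 122880 = true := by decide +kernel
theorem final4_c121 : allPow 126000 (finalStep fact node item4 T4 770542 4 126000) 10 123904 = true := by decide +kernel
theorem final4_c122 : allPow 126000 (finalStep fact node item4 T4 770542 4 126000) 10 124928 = true := by decide +kernel
theorem final4_c123 : allPow 126000 (finalStep fact node item4 T4 770542 4 126000) 10 125952 = true := by decide +kernel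
theorem final4 : allBelow 17 126000 (finalStep fact node item4 T4 770542 4 126000) = true :=
  allBelow_of_upto (hi := 126976)
    (Upto.trans (mid := 63488) (Upto.trans (mid := 31744) (Upto.trans (mid := 15360) (Upto.trans (mid := 7168) (Upto.trans (mid := 3072) (Upto.trans (mid := 1024) ((Upto.of_pow final4_c0 (Nat.le_refl _)) : Upto _ _ 0 (0 + 2 ^ 10))
    (Upto.trans (mid := 2048) ((Upto.of_pow final4_c1 (Nat.le_refl _)) : Upto _ _ 1024 (1024 + 2 ^ 10))
    ((Upto.of_pow final4_c2 (Nat.le_refl _)) : Upto _ _ 2048 (2048 + 2 ^ 10))))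
    (Upto.trans (mid := 5120) (Upto.trans (mid := 4096) ((Upto.of_pow final4_c3 (Nat.le_refl _)) : Upto _ _ 3072 (3072 + 2 ^ 10))
    ((Upto.of_pow final4_c4 (Nat.le_refl _)) : Upto _ _ 4096 (4096 + 2 ^ 10)))
    (Upto.trans (mid := 6144) ((Upto.of_pow final4_c5 (Nat.le_refl _)) : Upto _ _ 5120 (5120 + 2 ^ 10))
    ((Upto.of_pow final4_c6 (Nat.le_refl _)) : Upto _ _ 6144 (6144 + 2 ^ 10)))))
    (Upto.trans (mid := 11264) (Upto.trans (mid := 9216) (Upto.trans (mid := 8192) ((Upto.of_pow final4_c7 (Nat.le_refl _)) : Upto _ _ 7168 (7168 + 2 ^ 10))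
    ((Upto.of_pow final4_c8 (Nat.le_refl _)) : Upto _ _ 8192 (8192 + 2 ^ 10)))
    (Upto.trans (mid := 10240) ((Upto.of_pow final4_c9 (Nat.le_refl _)) : Upto _ _ 9216 (9216 + 2 ^ 10))
    ((Upto.of_pow final4_c10 (Nat.le_refl _)) : Upto _ _ 10240 (10240 + 2 ^ 10))))
    (Upto.trans (mid := 13312) (Upto.trans (mid := 12288) ((Upto.of_pow final4_c11 (Nat.le_refl _)) : Upto _ _ 11264 (11264 + 2 ^ 10))
    ((Upto.of_pow final4_c12 (Nat.le_refl _)) : Upto _ _ 12288 (12288 + 2 ^ 10)))
    (Upto.trans (mid := 14336) ((Upto.of_pow final4_c13 (Nat.le_refl _)) : Upto _ _ 13312 (13312 + 2 ^ 10))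
    ((Upto.of_pow final4_c14 (Nat.le_refl _)) : Upto _ _ 14336 (14336 + 2 ^ 10))))))
    (Upto.trans (mid := 23552) (Upto.trans (mid := 19456) (Upto.trans (mid := 17408) (Upto.trans (mid := 16384) ((Upto.of_pow final4_c15 (Nat.le_refl _)) : Upto _ _ 15360 (15360 + 2 ^ 10))
    ((Upto.of_pow final4_c16 (Nat.le_refl _)) : Upto _ _ 16384 (16384 + 2 ^ 10)))
    (Upto.trans (mid := 18432) ((Upto.of_pow final4_c17 (Nat.le_refl _)) : Upto _ _ 17408 (17408 + 2 ^ 10))
    ((Upto.of_pow final4_c18 (Nat.le_refl _)) : Upto _ _ 18432 (18432 + 2 ^ 10))))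
    (Upto.trans (mid := 21504) (Upto.trans (mid := 20480) ((Upto.of_pow final4_c19 (Nat.le_refl _)) : Upto _ _ 19456 (19456 + 2 ^ 10))
    ((Upto.of_pow final4_c20 (Nat.le_refl _)) : Upto _ _ 20480 (20480 + 2 ^ 10)))
    (Upto.trans (mid := 22528) ((Upto.of_pow final4_c21 (Nat.le_refl _)) : Upto _ _ 21504 (21504 + 2 ^ 10))
    ((Upto.of_pow final4_c22 (Nat.le_refl _)) : Upto _ _ 22528 (22528 + 2 ^ 10)))))
    (Upto.trans (mid := 27648) (Upto.trans (mid := 25600) (Upto.trans (mid := 24576) ((Upto.of_pow final4_c23 (Nat.le_refl _)) : Upto _ _ 23552 (23552 + 2 ^ 10))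
    ((Upto.of_pow final4_c24 (Nat.le_refl _)) : Upto _ _ 24576 (24576 + 2 ^ 10)))
    (Upto.trans (mid := 26624) ((Upto.of_pow final4_c25 (Nat.le_refl _)) : Upto _ _ 25600 (25600 + 2 ^ 10))
    ((Upto.of_pow final4_c26 (Nat.le_refl _)) : Upto _ _ 26624 (26624 + 2 ^ 10))))
    (Upto.trans (mid := 29696) (Upto.trans (mid := 28672) ((Upto.of_pow final4_c27 (Nat.le_refl _)) : Upto _ _ 27648 (27648 + 2 ^ 10))
    ((Upto.of_pow final4_c28 (Nat.le_refl _)) : Upto _ _ 28672 (28672 + 2 ^ 10)))
    (Upto.trans (mid := 30720) ((Upto.of_pow final4_c29 (Nat.le_refl _)) : Upto _ _ 29696 (29696 + 2 ^ 10))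
    ((Upto.of_pow final4_c30 (Nat.le_refl _)) : Upto _ _ 30720 (30720 + 2 ^ 10)))))))
    (Upto.trans (mid := 47104) (Upto.trans (mid := 38912) (Upto.trans (mid := 34816) (Upto.trans (mid := 32768) ((Upto.of_pow final4_c31 (Nat.le_refl _)) : Upto _ _ 31744 (31744 + 2 ^ 10))
    (Upto.trans (mid := 33792) ((Upto.of_pow final4_c32 (Nat.le_refl _)) : Upto _ _ 32768 (32768 + 2 ^ 10))
    ((Upto.of_pow final4_c33 (Nat.le_refl _)) : Upto _ _ 33792 (33792 + 2 ^ 10))))
    (Upto.trans (mid := 36864) (Upto.trans (mid := 35840) ((Upto.of_pow final4_c34 (Nat.le_refl _)) : Upto _ _ 34816 (34816 + 2 ^ 10))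
    ((Upto.of_pow final4_c35 (Nat.le_refl _)) : Upto _ _ 35840 (35840 + 2 ^ 10)))
    (Upto.trans (mid := 37888) ((Upto.of_pow final4_c36 (Nat.le_refl _)) : Upto _ _ 36864 (36864 + 2 ^ 10))
    ((Upto.of_pow final4_c37 (Nat.le_refl _)) : Upto _ _ 37888 (37888 + 2 ^ 10)))))
    (Upto.trans (mid := 43008) (Upto.trans (mid := 40960) (Upto.trans (mid := 39936) ((Upto.of_pow final4_c38 (Nat.le_refl _)) : Upto _ _ 38912 (38912 + 2 ^ 10))
    ((Upto.of_pow final4_c39 (Nat.le_refl _)) : Upto _ _ 39936 (39936 + 2 ^ 10)))
    (Upto.trans (mid := 41984) ((Upto.of_pow final4_c40 (Nat.le_refl _)) : Upto _ _ 40960 (40960 + 2 ^ 10))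
    ((Upto.of_pow final4_c41 (Nat.le_refl _)) : Upto _ _ 41984 (41984 + 2 ^ 10))))
    (Upto.trans (mid := 45056) (Upto.trans (mid := 44032) ((Upto.of_pow final4_c42 (Nat.le_refl _)) : Upto _ _ 43008 (43008 + 2 ^ 10))
    ((Upto.of_pow final4_c43 (Nat.le_refl _)) : Upto _ _ 44032 (44032 + 2 ^ 10)))
    (Upto.trans (mid := 46080) ((Upto.of_pow final4_c44 (Nat.le_refl _)) : Upto _ _ 45056 (45056 + 2 ^ 10))
    ((Upto.of_pow final4_c45 (Nat.le_refl _)) : Upto _ _ 46080 (46080 + 2 ^ 10))))))
    (Upto.trans (mid := 55296) (Upto.trans (mid := 51200) (Upto.trans (mid := 49152) (Upto.trans (mid := 48128) ((Upto.of_pow final4_c46 (Nat.le_refl _)) : Upto _ _ 47104 (47104 + 2 ^ 10))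
    ((Upto.of_pow final4_c47 (Nat.le_refl _)) : Upto _ _ 48128 (48128 + 2 ^ 10)))
    (Upto.trans (mid := 50176) ((Upto.of_pow final4_c48 (Nat.le_refl _)) : Upto _ _ 49152 (49152 + 2 ^ 10))
    ((Upto.of_pow final4_c49 (Nat.le_refl _)) : Upto _ _ 50176 (50176 + 2 ^ 10))))
    (Upto.trans (mid := 53248) (Upto.trans (mid := 52224) ((Upto.of_pow final4_c50 (Nat.le_refl _)) : Upto _ _ 51200 (51200 + 2 ^ 10))
    ((Upto.of_pow final4_c51 (Nat.le_refl _)) : Upto _ _ 52224 (52224 + 2 ^ 10)))
    (Upto.trans (mid := 54272) ((Upto.of_pow final4_c52 (Nat.le_refl _)) : Upto _ _ 53248 (53248 + 2 ^ 10))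
    ((Upto.of_pow final4_c53 (Nat.le_refl _)) : Upto _ _ 54272 (54272 + 2 ^ 10)))))
    (Upto.trans (mid := 59392) (Upto.trans (mid := 57344) (Upto.trans (mid := 56320) ((Upto.of_pow final4_c54 (Nat.le_refl _)) : Upto _ _ 55296 (55296 + 2 ^ 10))
    ((Upto.of_pow final4_c55 (Nat.le_refl _)) : Upto _ _ 56320 (56320 + 2 ^ 10)))
    (Upto.trans (mid := 58368) ((Upto.of_pow final4_c56 (Nat.le_refl _)) : Upto _ _ 57344 (57344 + 2 ^ 10))
    ((Upto.of_pow final4_c57 (Nat.le_refl _)) : Upto _ _ 58368 (58368 + 2 ^ 10))))
    (Upto.trans (mid := 61440) (Upto.trans (mid := 60416) ((Upto.of_pow final4_c58 (Nat.le_refl _)) : Upto _ _ 59392 (59392 + 2 ^ 10))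
    ((Upto.of_pow final4_c59 (Nat.le_refl _)) : Upto _ _ 60416 (60416 + 2 ^ 10)))
    (Upto.trans (mid := 62464) ((Upto.of_pow final4_c60 (Nat.le_refl _)) : Upto _ _ 61440 (61440 + 2 ^ 10))
    ((Upto.of_pow final4_c61 (Nat.le_refl _)) : Upto _ _ 62464 (62464 + 2 ^ 10))))))))
    (Upto.trans (mid := 95232) (Upto.trans (mid := 78848) (Upto.trans (mid := 70656) (Upto.trans (mid := 66560) (Upto.trans (mid := 64512) ((Upto.of_pow final4_c62 (Nat.le_refl _)) : Upto _ _ 63488 (63488 + 2 ^ 10))
    (Upto.trans (mid := 65536) ((Upto.of_pow final4_c63 (Nat.le_refl _)) : Upto _ _ 64512 (64512 + 2 ^ 10))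
    ((Upto.of_pow final4_c64 (Nat.le_refl _)) : Upto _ _ 65536 (65536 + 2 ^ 10))))
    (Upto.trans (mid := 68608) (Upto.trans (mid := 67584) ((Upto.of_pow final4_c65 (Nat.le_refl _)) : Upto _ _ 66560 (66560 + 2 ^ 10))
    ((Upto.of_pow final4_c66 (Nat.le_refl _)) : Upto _ _ 67584 (67584 + 2 ^ 10)))
    (Upto.trans (mid := 69632) ((Upto.of_pow final4_c67 (Nat.le_refl _)) : Upto _ _ 68608 (68608 + 2 ^ 10))
    ((Upto.of_pow final4_c68 (Nat.le_refl _)) : Upto _ _ 69632 (69632 + 2 ^ 10)))))
    (Upto.trans (mid := 74752) (Upto.trans (mid := 72704) (Upto.trans (mid := 71680) ((Upto.of_pow final4_c69 (Nat.le_refl _)) : Upto _ _ 70656 (70656 + 2 ^ 10))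
    ((Upto.of_pow final4_c70 (Nat.le_refl _)) : Upto _ _ 71680 (71680 + 2 ^ 10)))
    (Upto.trans (mid := 73728) ((Upto.of_pow final4_c71 (Nat.le_refl _)) : Upto _ _ 72704 (72704 + 2 ^ 10))
    ((Upto.of_pow final4_c72 (Nat.le_refl _)) : Upto _ _ 73728 (73728 + 2 ^ 10))))
    (Upto.trans (mid := 76800) (Upto.trans (mid := 75776) ((Upto.of_pow final4_c73 (Nat.le_refl _)) : Upto _ _ 74752 (74752 + 2 ^ 10))
    ((Upto.of_pow final4_c74 (Nat.le_refl _)) : Upto _ _ 75776 (75776 + 2 ^ 10)))
    (Upto.trans (mid := 77824) ((Upto.of_pow final4_c75 (Nat.le_refl _)) : Upto _ _ 76800 (76800 + 2 ^ 10))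
    ((Upto.of_pow final4_c76 (Nat.le_refl _)) : Upto _ _ 77824 (77824 + 2 ^ 10))))))
    (Upto.trans (mid := 87040) (Upto.trans (mid := 82944) (Upto.trans (mid := 80896) (Upto.trans (mid := 79872) ((Upto.of_pow final4_c77 (Nat.le_refl _)) : Upto _ _ 78848 (78848 + 2 ^ 10))
    ((Upto.of_pow final4_c78 (Nat.le_refl _)) : Upto _ _ 79872 (79872 + 2 ^ 10)))
    (Upto.trans (mid := 81920) ((Upto.of_pow final4_c79 (Nat.le_refl _)) : Upto _ _ 80896 (80896 + 2 ^ 10))
    ((Upto.of_pow final4_c80 (Nat.le_refl _)) : Upto _ _ 81920 (81920 + 2 ^ 10))))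
    (Upto.trans (mid := 84992) (Upto.trans (mid := 83968) ((Upto.of_pow final4_c81 (Nat.le_refl _)) : Upto _ _ 82944 (82944 + 2 ^ 10))
    ((Upto.of_pow final4_c82 (Nat.le_refl _)) : Upto _ _ 83968 (83968 + 2 ^ 10)))
    (Upto.trans (mid := 86016) ((Upto.of_pow final4_c83 (Nat.le_refl _)) : Upto _ _ 84992 (84992 + 2 ^ 10))
    ((Upto.of_pow final4_c84 (Nat.le_refl _)) : Upto _ _ 86016 (86016 + 2 ^ 10)))))
    (Upto.trans (mid := 91136) (Upto.trans (mid := 89088) (Upto.trans (mid := 88064) ((Upto.of_pow final4_c85 (Nat.le_refl _)) : Upto _ _ 87040 (87040 + 2 ^ 10))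
    ((Upto.of_pow final4_c86 (Nat.le_refl _)) : Upto _ _ 88064 (88064 + 2 ^ 10)))
    (Upto.trans (mid := 90112) ((Upto.of_pow final4_c87 (Nat.le_refl _)) : Upto _ _ 89088 (89088 + 2 ^ 10))
    ((Upto.of_pow final4_c88 (Nat.le_refl _)) : Upto _ _ 90112 (90112 + 2 ^ 10))))
    (Upto.trans (mid := 93184) (Upto.trans (mid := 92160) ((Upto.of_pow final4_c89 (Nat.le_refl _)) : Upto _ _ 91136 (91136 + 2 ^ 10))
    ((Upto.of_pow final4_c90 (Nat.le_refl _)) : Upto _ _ 92160 (92160 + 2 ^ 10)))
    (Upto.trans (mid := 94208) ((Upto.of_pow final4_c91 (Nat.le_refl _)) : Upto _ _ 93184 (93184 + 2 ^ 10))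
    ((Upto.of_pow final4_c92 (Nat.le_refl _)) : Upto _ _ 94208 (94208 + 2 ^ 10)))))))
    (Upto.trans (mid := 110592) (Upto.trans (mid := 102400) (Upto.trans (mid := 98304) (Upto.trans (mid := 96256) ((Upto.of_pow final4_c93 (Nat.le_refl _)) : Upto _ _ 95232 (95232 + 2 ^ 10))
    (Upto.trans (mid := 97280) ((Upto.of_pow final4_c94 (Nat.le_refl _)) : Upto _ _ 96256 (96256 + 2 ^ 10))
    ((Upto.of_pow final4_c95 (Nat.le_refl _)) : Upto _ _ 97280 (97280 + 2 ^ 10))))
    (Upto.trans (mid := 100352) (Upto.trans (mid := 99328) ((Upto.of_pow final4_c96 (Nat.le_refl _)) : Upto _ _ 98304 (98304 + 2 ^ 10))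
    ((Upto.of_pow final4_c97 (Nat.le_refl _)) : Upto _ _ 99328 (99328 + 2 ^ 10)))
    (Upto.trans (mid := 101376) ((Upto.of_pow final4_c98 (Nat.le_refl _)) : Upto _ _ 100352 (100352 + 2 ^ 10))
    ((Upto.of_pow final4_c99 (Nat.le_refl _)) : Upto _ _ 101376 (101376 + 2 ^ 10)))))
    (Upto.trans (mid := 106496) (Upto.trans (mid := 104448) (Upto.trans (mid := 103424) ((Upto.of_pow final4_c100 (Nat.le_refl _)) : Upto _ _ 102400 (102400 + 2 ^ 10))
    ((Upto.of_pow final4_c101 (Nat.le_refl _)) : Upto _ _ 103424 (103424 + 2 ^ 10)))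
    (Upto.trans (mid := 105472) ((Upto.of_pow final4_c102 (Nat.le_refl _)) : Upto _ _ 104448 (104448 + 2 ^ 10))
    ((Upto.of_pow final4_c103 (Nat.le_refl _)) : Upto _ _ 105472 (105472 + 2 ^ 10))))
    (Upto.trans (mid := 108544) (Upto.trans (mid := 107520) ((Upto.of_pow final4_c104 (Nat.le_refl _)) : Upto _ _ 106496 (106496 + 2 ^ 10))
    ((Upto.of_pow final4_c105 (Nat.le_refl _)) : Upto _ _ 107520 (107520 + 2 ^ 10)))
    (Upto.trans (mid := 109568) ((Upto.of_pow final4_c106 (Nat.le_refl _)) : Upto _ _ 108544 (108544 + 2 ^ 10))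
    ((Upto.of_pow final4_c107 (Nat.le_refl _)) : Upto _ _ 109568 (109568 + 2 ^ 10))))))
    (Upto.trans (mid := 118784) (Upto.trans (mid := 114688) (Upto.trans (mid := 112640) (Upto.trans (mid := 111616) ((Upto.of_pow final4_c108 (Nat.le_refl _)) : Upto _ _ 110592 (110592 + 2 ^ 10))
    ((Upto.of_pow final4_c109 (Nat.le_refl _)) : Upto _ _ 111616 (111616 + 2 ^ 10)))
    (Upto.trans (mid := 113664) ((Upto.of_pow final4_c110 (Nat.le_refl _)) : Upto _ _ 112640 (112640 + 2 ^ 10))
    ((Upto.of_pow final4_c111 (Nat.le_refl _)) : Upto _ _ 113664 (113664 + 2 ^ 10))))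
    (Upto.trans (mid := 116736) (Upto.trans (mid := 115712) ((Upto.of_pow final4_c112 (Nat.le_refl _)) : Upto _ _ 114688 (114688 + 2 ^ 10))
    ((Upto.of_pow final4_c113 (Nat.le_refl _)) : Upto _ _ 115712 (115712 + 2 ^ 10)))
    (Upto.trans (mid := 117760) ((Upto.of_pow final4_c114 (Nat.le_refl _)) : Upto _ _ 116736 (116736 + 2 ^ 10))
    ((Upto.of_pow final4_c115 (Nat.le_refl _)) : Upto _ _ 117760 (117760 + 2 ^ 10)))))
    (Upto.trans (mid := 122880) (Upto.trans (mid := 120832) (Upto.trans (mid := 119808) ((Upto.of_pow final4_c116 (Nat.le_refl _)) : Upto _ _ 118784 (118784 + 2 ^ 10))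
    ((Upto.of_pow final4_c117 (Nat.le_refl _)) : Upto _ _ 119808 (119808 + 2 ^ 10)))
    (Upto.trans (mid := 121856) ((Upto.of_pow final4_c118 (Nat.le_refl _)) : Upto _ _ 120832 (120832 + 2 ^ 10))
    ((Upto.of_pow final4_c119 (Nat.le_refl _)) : Upto _ _ 121856 (121856 + 2 ^ 10))))
    (Upto.trans (mid := 124928) (Upto.trans (mid := 123904) ((Upto.of_pow final4_c120 (Nat.le_refl _)) : Upto _ _ 122880 (122880 + 2 ^ 10))
    ((Upto.of_pow final4_c121 (Nat.le_refl _)) : Upto _ _ 123904 (123904 + 2 ^ 10)))
    (Upto.trans (mid := 125952) ((Upto.of_pow final4_c122 (Nat.le_refl _)) : Upto _ _ 124928 (124928 + 2 ^ 10))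
    ((Upto.of_pow final4_c123 (Nat.le_refl _)) : Upto _ _ 125952 (125952 + 2 ^ 10)))))))))
    (by decide) (by decide)

theorem relW_one : ∀ w ∈ relW, evalW (PresentedGroup.of (rels := (Cfsg.Spor.coxRelators CfsgLib.FusionExamples.HNSub.edges ∪ {r | r ∈ CfsgLib.FusionExamples.HNSub.extra}))) w = 1 := by
  have h : coxW CfsgLib.FusionExamples.HNSub.edges pairs extraW = relW := by decide +kernel
  rw [← h]
  exact coxW_eq_one (by decide +kernel) rfl

noncomputable def tabU : Cfsg.Spor.HN.Gen → Nat → Nat := fun a => tabs a true

theorem sect : ∃ s : Nat → PresentedGroup (Cfsg.Spor.coxRelators CfsgLib.FusionExamples.HNSub.edges ∪ {r | r ∈ CfsgLib.FusionExamples.HNSub.extra}) ⧸ wordSubgroup (Cfsg.Spor.coxRelators CfsgLib.FusionExamples.HNSub.edges ∪ {r | r ∈ CfsgLib.FusionExamples.HNSub.extra}) subW,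
    s 0 = ((1 : PresentedGroup (Cfsg.Spor.coxRelators CfsgLib.FusionExamples.HNSub.edges ∪ {r | r ∈ CfsgLib.FusionExamples.HNSub.extra})) : PresentedGroup (Cfsg.Spor.coxRelators CfsgLib.FusionExamples.HNSub.edges ∪ {r | r ∈ CfsgLib.FusionExamples.HNSub.extra}) ⧸ wordSubgroup (Cfsg.Spor.coxRelators CfsgLib.FusionExamples.HNSub.edges ∪ {r | r ∈ CfsgLib.FusionExamples.HNSub.extra}) subW) ∧
    ∀ a ∈ ([.x, .y] : List Cfsg.Spor.HN.Gen), ∀ u, u < 126000 → tabU a u < 126000 ∧
      (PresentedGroup.of (rels := (Cfsg.Spor.coxRelators CfsgLib.FusionExamples.HNSub.edges ∪ {r | r ∈ CfsgLib.FusionExamples.HNSub.extra})) a) • s u = s (tabU a u) :=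
  section_of_checks invols relW relW_one (by decide +kernel) subW lets data rtriv rroot 10 12 rfl rfl
    (by decide +kernel) (by decide +kernel) (fun k hk => allBelow_spec defs_ok k hk) (covers1.trans (covers2.trans (covers3.trans (covers4.trans (covers5.trans (covers6.trans (covers7.trans (covers8.trans (covers9.trans (covers10.trans (covers11.trans (covers12.trans (covers13.trans (covers14.trans (covers15.trans (covers16.trans (covers17.trans (covers18.trans (covers19.trans (covers20.trans (covers21.trans (covers22.trans (covers23.trans (covers24.trans (covers25.trans (covers26.trans (covers27.trans (covers28.trans (covers29.trans (covers30.trans (covers31.trans (covers32.trans (covers33.trans (covers34.trans (covers35.trans (covers36.trans (covers37.trans (covers38.trans (covers39.trans (covers40.trans (covers41.trans (covers42.trans (covers43.trans (covers44.trans (covers45.trans (covers46.trans (covers47.trans (covers48.trans (covers49.trans (covers50.trans (covers51.trans (covers52.trans (covers53.trans (covers54))))))))))))))))))))))))))))))))))))))))))))))))))))))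 (by decide +kernel)
    (by
      intro i hi u hu
      have hi' : i < 4 := hi
      interval_cases i
      · exact allBelow_spec final1 u hu
      · exact allBelow_spec final2 u hu
      · exact allBelow_spec final3 u hu
      · exact allBelow_spec final4 u hu
      ) [.x, .y] tabU (by
      intro a ha
      fin_cases ha
      · exact ⟨0, by decide, rfl, rfl⟩
      · exact ⟨2, by decide, rfl, rfl⟩
      )

end CfsgLib.FusionExamples.HNSub.HNSxyA
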